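import Cfsg.Agent.H87.InvBlocks

/-!
The root structure theorem: the isolated members `W` of `C_D(d)`, their commutators `(a b)²`, and the
group they generate.
-/

set_option autoImplicit false
set_option linter.style.haveILetI false

namespace Cfsg.Agent.H73.RootStr

open Subgroup Cfsg.Agent.H87
open scoped commutatorElement

variable {G : Type*} [Group G] {D : Set G} {d : G}

/-- The square of `a b`; for two involutions it is their commutator. -/
def cm (a b : G) : G := (a * b) ^ 2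

/-- The members with the same odd partners as `d`. -/
def EC (D : Set G) (d : G) : Set G := {e | e ∈ D ∧ Inv.OddSet D e = Inv.OddSet D d}

/-- The members commuting with `d` without odd partner among the members commuting with `d`. -/
def W (D : Set G) (d : G) : Set G :=
  {w | w ∈ D ∧ Commute w d ∧ ∀ u ∈ D, Commute u d → ¬ Cfsg.OddAdj D w u}

/-- `W` with the identity. -/
def W1 (D : Set G) (d : G) : Set G := insert 1 (W D d)

/-- All squares `(c w)²`, `w` in `W`, lie in `E(d)`. -/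
def Sp (D : Set G) (d c : G) : Prop := ∀ w ∈ W D d, cm c w ∈ Cfsg.sameCommutingSubgroup D d

theorem cm_def (a b : G) : cm a b = a * b * (a * b) := pow_two _

theorem cm_one_left {b : G} (hb : b * b = 1) : cm 1 b = 1 := by simp [cm_def, hb]

theorem cm_one_right {a : G} (ha : a * a = 1) : cm a 1 = 1 := by simp [cm_def, ha]

theorem cm_of_commute {a b : G} (ha : a * a = 1) (hb : b * b = 1) (h : Commute a b) : cm a b = 1 := by
  rw [cm, h.mul_pow, pow_two, pow_two, ha, hb, one_mul]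

theorem conj_eq_mul_cm {a : G} (ha : a * a = 1) (b : G) : b * a * b = a * cm a b := by
  rw [cm_def, show a * (a * b * (a * b)) = (a * a) * (b * a * b) by simp [mul_assoc], ha, one_mul]

theorem cj_mul {y : G} (hy : y * y = 1) (a b : G) : y * (a * b) * y = (y * a * y) * (y * b * y) := by
  rw [show y * a * y * (y * b * y) = y * a * (y * y) * (b * y) by simp [mul_assoc], hy]
  simp [mul_assoc]

theorem cj_cj {y : G} (hy : y * y = 1) (a : G) : y * (y * a * y) * y = a := by
  rw [show y * (y * a * y) * y = (y * y) * a * (y * y) by simp [mul_assoc], hy, one_mul, mul_one]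

theorem cm_cj {g : G} (hg : g * g = 1) (a b : G) : g * cm a b * g = cm (g * a * g) (g * b * g) := by
  rw [cm_def, cm_def, cj_mul hg, cj_mul hg]

theorem cm_map_conj (g a b : G) : g * cm a b * g⁻¹ = cm (g * a * g⁻¹) (g * b * g⁻¹) := by
  rw [cm_def, cm_def]; group

theorem cm_eq_commutator {a b : G} (ha : a * a = 1) (hb : b * b = 1) : cm a b = ⁅a, b⁆ := by
  rw [commutatorElement_def, inv_eq_of_mul_eq_one_left ha, inv_eq_of_mul_eq_one_left hb, cm_def]
  simp [mul_assoc]

/-- An element fixed under conjugation by an involution commutes with it. -/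
theorem commute_of_cj {y a : G} (hy : y * y = 1) (h : y * a * y = a) : Commute y a := by
  show y * a = a * y
  calc y * a = y * a * y * y := by rw [mul_assoc _ y y, hy, mul_one]
    _ = a * y := by rw [h]

theorem cj_of_commute {y a : G} (hy : y * y = 1) (h : Commute y a) : y * a * y = a := by
  rw [h.eq, mul_assoc, hy, mul_one]

theorem conj_of_cm_eq_one {a b : G} (ha : a * a = 1) (hb : b * b = 1) (h : cm a b = 1) : Commute a b := by
  refine (commute_of_cj hb ?_).symm
  rw [conj_eq_mul_cm ha, h, mul_one]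

/-- The hypotheses of the root structure theorem. -/
structure Ctx (D : Set G) (d : G) : Prop where
  cls : Cfsg.IsRootInvolutionClass D
  conn : Cfsg.IsConnectedSet (Cfsg.OddAdj D) D
  grp : ∀ e ∈ D, (Cfsg.sameCommutingSubgroup D e : Set G) = Cfsg.sameCommutingClass D e ∪ {1}
  mem : d ∈ D

variable [Finite G] (h : Ctx D d)
include h

theorem Ctx.sameClass {e : G} (he : e ∈ D) : Cfsg.sameCommutingClass D e = EC D e := by
  ext x
  constructor
  · rintro ⟨hx, hx'⟩
    exact ⟨hx, ((Inv.commutingMembers_eq_iff h.cls.1 h.conn he hx).1 hx').symm⟩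
  · rintro ⟨hx, hx'⟩
    exact ⟨hx, (Inv.commutingMembers_eq_iff h.cls.1 h.conn he hx).2 hx'.symm⟩

theorem Ctx.mem_E {e x : G} (he : e ∈ D) :
    x ∈ Cfsg.sameCommutingSubgroup D e ↔ x = 1 ∨ x ∈ EC D e := by
  rw [← SetLike.mem_coe, h.grp e he, h.sameClass he, Set.mem_union, Set.mem_singleton_iff]
  exact or_comm

theorem Ctx.d_mem_EC : d ∈ EC D d := ⟨h.mem, rfl⟩

theorem Ctx.mul_EC {c a b : G} (hc : c ∈ D) (ha : a ∈ EC D c) (hb : b ∈ EC D c) (hab : a ≠ b) :
    a * b ∈ EC D c := by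
  rcases (h.mem_E hc).1 (mul_mem ((h.mem_E hc).2 (Or.inr ha)) ((h.mem_E hc).2 (Or.inr hb))) with h1 | h1
  · exact absurd ((eq_inv_of_mul_eq_one_left h1).trans (Inv.inv_eq h.cls.1 hb.1)) hab
  · exact h1

/-- A member commuting with `c` commutes with all members having the odd partners of `c`. -/
theorem Ctx.comm_EC {c e u : G} (hc : c ∈ D) (he : e ∈ EC D c) (hu : u ∈ D) (huc : Commute u c) :
    Commute u e :=
  Inv.commute_of_oddSet_eq' h.cls.1 h.conn hc he.1 he.2.symm hu huc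

theorem Ctx.comm_EC' {c e u : G} (hc : c ∈ D) (he : e ∈ EC D c) (hu : u ∈ D) (hue : Commute u e) :
    Commute u c :=
  Inv.commute_of_oddSet_eq' h.cls.1 h.conn he.1 hc he.2 hu hue

theorem Ctx.EC_W {e : G} (he : e ∈ EC D d) : e ∈ W D d := by
  refine ⟨he.1, (h.comm_EC h.mem he h.mem (Commute.refl d)).symm, fun u hu hud ho => ?_⟩
  have h1 : u ∈ Inv.OddSet D d := by rw [← he.2]; exact ho
  exact Inv.odd_not_commute h.cls.1 h1 hud.symm

theorem Ctx.d_W : d ∈ W D d := h.EC_W h.d_mem_EC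

/-- A member on a line with a member of `EC d` lies in `W`. -/
theorem Ctx.W_of_line {p e : G} (hp : p ∈ D) (he : e ∈ EC D d) (hpe : Commute p e) (hm : p * e ∈ D) :
    p ∈ W D d := by
  refine ⟨hp, h.comm_EC' h.mem he hp hpe, fun u hu hud ho => ?_⟩
  exact Inv.center_false h.cls.1 (Inv.sq_eq h.cls.1 he.1) (Inv.ne_one h.cls.1 he.1)
    (h.comm_EC h.mem he hu hud).symm hpe.symm (Inv.odd_symm h.cls.1 ho) hm

theorem Ctx.W_mul {a b : G} (ha : a ∈ W D d) (hb : b ∈ W D d) (hab : Commute a b) (hm : a * b ∈ D) :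
    a * b ∈ W D d := by
  refine ⟨hm, ha.2.1.mul_left hb.2.1, fun u hu hud ho => ?_⟩
  have hcom : Commute (a * b) a := (Commute.refl a).mul_left hab.symm
  have hmem : a * b * a ∈ D := by
    rw [hab.eq, mul_assoc, Inv.sq_eq h.cls.1 ha.1, mul_one]; exact hb.1
  rcases Inv.third h.cls.1 hcom ha.1 hmem (Inv.odd_symm h.cls.1 ho) with h1 | h1
  · exact ha.2.2 u hu hud (Inv.odd_symm h.cls.1 h1)
  · rw [hab.eq, mul_assoc, Inv.sq_eq h.cls.1 ha.1, mul_one] at h1
    exact hb.2.2 u hu hud (Inv.odd_symm h.cls.1 h1)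

theorem Ctx.W_conj {g w : G} (hg : g * d * g⁻¹ ∈ EC D d) (hw : w ∈ W D d) : g * w * g⁻¹ ∈ W D d := by
  have hD := h.cls.1.conj_mem w hw.1 g
  refine ⟨hD, h.comm_EC' h.mem hg hD ((Commute.conj_iff g).2 hw.2.1), fun u hu hud ho => ?_⟩
  have h1 := (Commute.conj_iff g⁻¹).2 (h.comm_EC h.mem hg hu hud)
  rw [show g⁻¹ * (g * d * g⁻¹) * g⁻¹⁻¹ = d by group] at h1
  have h2 := Inv.odd_conj h.cls.1 ho g⁻¹
  rw [show g⁻¹ * (g * w * g⁻¹) * g⁻¹⁻¹ = w by group] at h2
  exact hw.2.2 _ (h.cls.1.conj_mem u hu g⁻¹) h1 h2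

theorem Ctx.W_comm_or_four {a b : G} (ha : a ∈ W D d) (hb : b ∈ W D d) : Commute a b ∨ Inv.Four D a b := by
  rcases Inv.cases' h.cls.1 ha.1 hb.1 with h1 | h1 | h1
  · exact Or.inl h1
  · exact absurd h1 (ha.2.2 b hb.1 hb.2.1)
  · exact Or.inr h1

theorem Ctx.sq {x : G} (hx : x ∈ W1 D d) : x * x = 1 := by
  rcases hx with rfl | hx
  · exact one_mul 1
  · exact Inv.sq_eq h.cls.1 hx.1

theorem Ctx.inv {x : G} (hx : x ∈ W1 D d) : x⁻¹ = x := inv_eq_of_mul_eq_one_left (h.sq hx)

theorem Ctx.comm_d {x : G} (hx : x ∈ W1 D d) : Commute x d := by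
  rcases hx with rfl | hx
  · exact Commute.one_left d
  · exact hx.2.1

theorem Ctx.E_W1 {e : G} (he : e ∈ Cfsg.sameCommutingSubgroup D d) : e ∈ W1 D d := by
  rcases (h.mem_E h.mem).1 he with rfl | he
  · exact Or.inl rfl
  · exact Or.inr (h.EC_W he)

theorem Ctx.E_comm_D {e u : G} (he : e ∈ Cfsg.sameCommutingSubgroup D d) (hu : u ∈ D) (hud : Commute u d) :
    Commute e u := by
  rcases (h.mem_E h.mem).1 he with rfl | he
  · exact Commute.one_left u
  · exact (h.comm_EC h.mem he hu hud).symm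

theorem Ctx.E_comm {e x : G} (he : e ∈ Cfsg.sameCommutingSubgroup D d) (hx : x ∈ closure (W D d)) :
    Commute e x := by
  induction hx using closure_induction with
  | mem w hw => exact h.E_comm_D he hw.1 hw.2.1
  | one => exact Commute.one_right e
  | mul _ _ _ _ h1 h2 => exact h1.mul_right h2
  | inv _ _ h1 => exact h1.inv_right

omit h [Finite G] in
theorem W1_N {x : G} (hx : x ∈ W1 D d) : x ∈ closure (W D d) := by
  rcases hx with rfl | hx
  · exact one_mem _
  · exact subset_closure hx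

theorem Ctx.E_comm_W1 {e x : G} (he : e ∈ Cfsg.sameCommutingSubgroup D d) (hx : x ∈ W1 D d) :
    Commute e x := h.E_comm he (W1_N hx)

theorem Ctx.cm_mem {a b : G} (ha : a ∈ W1 D d) (hb : b ∈ W1 D d) : cm a b ∈ W1 D d := by
  rcases ha with rfl | ha
  · exact Or.inl (cm_one_left (h.sq hb))
  rcases hb with rfl | hb
  · exact Or.inl (cm_one_right (Inv.sq_eq h.cls.1 ha.1))
  rcases h.W_comm_or_four ha hb with h1 | h1
  · exact Or.inl (cm_of_commute (Inv.sq_eq h.cls.1 ha.1) (Inv.sq_eq h.cls.1 hb.1) h1)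
  · obtain ⟨hcD, hca, -, hbab, hm, -⟩ := Inv.four_data h.cls.1 h1
    right
    have hg : b * d * b⁻¹ ∈ EC D d := by
      rw [hb.2.1.eq, mul_inv_cancel_right]; exact h.d_mem_EC
    have h2 := h.W_conj hg ha
    rw [Inv.inv_eq h.cls.1 hb.1, hbab] at h2
    have h3 := h.W_mul ha h2 ((Commute.refl a).mul_right hca.symm)
      (by rw [Inv.self_mul_cancel h.cls.1 ha.1]; exact hcD)
    rwa [Inv.self_mul_cancel h.cls.1 ha.1] at h3

theorem Ctx.cm_swap {a b : G} (ha : a ∈ W1 D d) (hb : b ∈ W1 D d) : cm b a = cm a b := by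
  refine (eq_inv_of_mul_eq_one_left ?_).trans (h.inv (h.cm_mem ha hb))
  rw [cm_def, cm_def, show b * a * (b * a) * (a * b * (a * b)) = b * a * b * (a * a) * b * a * b by
    simp [mul_assoc], h.sq ha, mul_one, show b * a * b * b * a * b = b * a * (b * b) * (a * b) by
    simp [mul_assoc], h.sq hb, mul_one, show b * a * (a * b) = b * (a * a) * b by simp [mul_assoc],
    h.sq ha, mul_one, h.sq hb]

theorem Ctx.cm_comm_left {a b : G} (ha : a ∈ W1 D d) (hb : b ∈ W1 D d) : Commute (cm a b) a := by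
  show cm a b * a = a * cm a b
  rw [← conj_eq_mul_cm (h.sq ha), ← h.cm_swap ha hb, cm_def,
    show b * a * (b * a) * a = b * a * b * (a * a) by simp [mul_assoc], h.sq ha, mul_one]

theorem Ctx.cm_comm_right {a b : G} (ha : a ∈ W1 D d) (hb : b ∈ W1 D d) : Commute (cm a b) b := by
  rw [← h.cm_swap ha hb]; exact h.cm_comm_left hb ha

theorem Ctx.four_of_cm {a b : G} (ha : a ∈ W1 D d) (hb : b ∈ W1 D d) (hne : cm a b ≠ 1) :
    Inv.Four D a b := by
  rcases ha with rfl | ha
  · exact absurd (cm_one_left (h.sq hb)) hne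
  rcases hb with rfl | hb
  · exact absurd (cm_one_right (Inv.sq_eq h.cls.1 ha.1)) hne
  exact (h.W_comm_or_four ha hb).resolve_left
    fun h1 => hne (cm_of_commute (Inv.sq_eq h.cls.1 ha.1) (Inv.sq_eq h.cls.1 hb.1) h1)

theorem Ctx.cj_W1 {g w : G} (hg : g ∈ W1 D d) (hw : w ∈ W1 D d) : g * w * g ∈ W1 D d := by
  rcases hw with rfl | hw
  · exact Or.inl (by rw [mul_one, h.sq hg])
  · right
    have h1 := h.W_conj (g := g) (by rw [(h.comm_d hg).eq, mul_inv_cancel_right]; exact h.d_mem_EC) hw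
    rwa [h.inv hg] at h1

theorem Ctx.cj_W {g w : G} (hg : g ∈ W1 D d) (hw : w ∈ W D d) : g * w * g ∈ W D d := by
  have h1 := h.W_conj (g := g) (by rw [(h.comm_d hg).eq, mul_inv_cancel_right]; exact h.d_mem_EC) hw
  rwa [h.inv hg] at h1

theorem Ctx.sp_mem {c w : G} (hc : c * c = 1) (hs : Sp D d c) (hw : w ∈ W1 D d) :
    cm c w ∈ Cfsg.sameCommutingSubgroup D d := by
  rcases hw with rfl | hw
  · rw [cm_one_right hc]; exact one_mem _
  · exact hs w hw

theorem Ctx.sp_of_E {e : G} (he : e ∈ Cfsg.sameCommutingSubgroup D d) : Sp D d e := by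
  intro w hw
  rw [cm_of_commute (h.sq (h.E_W1 he)) (Inv.sq_eq h.cls.1 hw.1) (h.E_comm_D he hw.1 hw.2.1)]
  exact one_mem _

theorem Ctx.sp_cj {g c : G} (hg : g ∈ W1 D d) (hs : Sp D d c) : Sp D d (g * c * g) := by
  intro w hw
  have h1 := hs _ (h.cj_W hg hw)
  have h2 : g * cm c (g * w * g) * g = cm (g * c * g) w := by rw [cm_cj (h.sq hg), cj_cj (h.sq hg)]
  rw [← h2, cj_of_commute (h.sq hg) (h.E_comm_W1 h1 hg).symm]
  exact h1

/-- A member `c` with all `(c w)²` in `E(d)` commutes with every `(a b)²`. -/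
theorem Ctx.sp_commute {c a b : G} (hc : c ∈ W1 D d) (hs : Sp D d c) (ha : a ∈ W1 D d) (hb : b ∈ W1 D d) :
    Commute c (cm a b) := by
  have hA := h.sp_mem (h.sq hc) hs ha
  have hB := h.sp_mem (h.sq hc) hs hb
  have h1 : ∀ x ∈ W1 D d, x * c = c * cm c x * x := fun x hx => by
    rw [← conj_eq_mul_cm (h.sq hc), mul_assoc _ x x, h.sq hx, mul_one]
  set u := cm c a * cm c b with hu
  have huab : Commute u (a * b) :=
    ((h.E_comm_W1 hA ha).mul_left (h.E_comm_W1 hB ha)).mul_right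
      ((h.E_comm_W1 hA hb).mul_left (h.E_comm_W1 hB hb))
  have huu : u * u = 1 := by
    rw [hu, (h.E_comm_W1 hB (h.E_W1 hA)).mul_mul_mul_comm, h.sq (h.E_W1 hA), h.sq (h.E_W1 hB), one_mul]
  have h2 : a * b * c = c * u * (a * b) := by
    calc a * b * c = a * (b * c) := mul_assoc a b c
      _ = a * c * cm c b * b := by rw [h1 b hb]; simp [mul_assoc]
      _ = c * cm c a * (a * cm c b) * b := by rw [h1 a ha]; simp [mul_assoc]
      _ = _ := by rw [← (h.E_comm_W1 hB ha).eq, hu]; simp [mul_assoc]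
  show c * cm a b = cm a b * c
  symm
  calc cm a b * c = a * b * (a * b * c) := by rw [cm_def]; simp [mul_assoc]
    _ = (a * b * c) * u * (a * b) := by
      conv_lhs => rw [h2]
      simp [mul_assoc]
    _ = c * u * ((a * b) * u) * (a * b) := by rw [h2]; simp [mul_assoc]
    _ = c * (u * u) * (a * b * (a * b)) := by rw [← huab.eq]; simp [mul_assoc]
    _ = c * cm a b := by rw [huu, mul_one, cm_def]

theorem Ctx.isPGroup_N : IsPGroup 2 (closure (W D d)) := by
  haveI : Fact (Nat.Prime 2) := ⟨Nat.prime_two⟩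
  set Q := closure (W D d) with hQ
  have hQd : ∀ q ∈ Q, q * d * q⁻¹ ∈ EC D d := fun q hq => by
    rw [← (h.E_comm ((h.mem_E h.mem).2 (Or.inr h.d_mem_EC)) hq).eq, mul_inv_cancel_right]
    exact h.d_mem_EC
  let S : Set Q := Q.subtype ⁻¹' W D d
  have hS : closure S = ⊤ := closure_closure_coe_preimage
  suffices (⊤ : Subgroup Q) ≤ Cfsg.pCore 2 Q from
    fun x => by
      obtain ⟨k, hk⟩ := Cores.pCore_isPGroup (G := Q) (p := 2) ⟨x, this (mem_top x)⟩
      exact ⟨k, congrArg Subtype.val hk⟩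
  rw [← hS, closure_le]
  intro x hx
  obtain ⟨M, hM, hMp, hxM⟩ := Thompson.baer_suzuki (p := 2) (x := x) fun q => by
    have hq : (q : G) * x * (q : G)⁻¹ ∈ W D d := h.W_conj (hQd q q.2) hx
    have h1 := Inv.isPGroup_pair h.cls.1 hx.1 hq.1 (hx.2.2 _ hq.1 hq.2.1)
    refine ((h1.comap_subtype (K := Q)).to_le ?_)
    rw [closure_le]
    rintro z (rfl | rfl)
    · exact subset_closure (Set.mem_insert _ _)
    · exact subset_closure (Set.mem_insert_of_mem _ rfl)
  haveI := hM
  exact Cores.le_pCore hMp hxM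

theorem Ctx.D_inter_N {x : G} (hx : x ∈ D) (hxN : x ∈ closure (W D d)) : x ∈ W D d := by
  have hxd : Commute x d := (h.E_comm ((h.mem_E h.mem).2 (Or.inr h.d_mem_EC)) hxN).symm
  refine ⟨hx, hxd, fun u hu hud ho => ?_⟩
  have hnorm : u ∈ normalizer (closure (W D d) : Set G) := by
    have key : ∀ n ∈ closure (W D d), u * n * u⁻¹ ∈ closure (W D d) := by
      intro n hn
      induction hn using closure_induction with
      | mem w hw =>
        refine subset_closure (h.W_conj ?_ hw)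
        rw [hud.eq, mul_inv_cancel_right]; exact h.d_mem_EC
      | one => simp
      | mul a b _ _ ha hb =>
        rw [show u * (a * b) * u⁻¹ = u * a * u⁻¹ * (u * b * u⁻¹) by group]; exact mul_mem ha hb
      | inv a _ ha =>
        rw [show u * a⁻¹ * u⁻¹ = (u * a * u⁻¹)⁻¹ by group]; exact inv_mem ha
    rw [mem_normalizer_iff]
    refine fun n => ⟨key n, fun hn => ?_⟩
    have h1 := key _ hn
    rwa [Inv.inv_eq h.cls.1 hu, cj_cj (Inv.sq_eq h.cls.1 hu)] at h1
  have huN : u ∈ closure (W D d) := by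
    obtain ⟨k, hk⟩ := ho.2.2.2
    have hpow := Inv.pow_conj (x * u) x (by
      rw [Inv.inv_eq h.cls.1 hx, Inv.mul_inv_eq h.cls.1 hx hu, Inv.self_mul_cancel h.cls.1 hx]) k
    have h1 : (x * u) ^ (2 * k) = (x * u)⁻¹ := by
      apply eq_inv_of_mul_eq_one_left
      rw [← pow_succ, ← hk, pow_orderOf_eq_one]
    rw [h1, Inv.mul_inv_eq h.cls.1 hx hu,
      show u * x * x = u by rw [mul_assoc, Inv.sq_eq h.cls.1 hx, mul_one]] at hpow
    rw [← hpow]
    have hK : (x * u) ^ k ∈ normalizer (closure (W D d) : Set G) :=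
      pow_mem (mul_mem (le_normalizer hxN) hnorm) k
    exact (mem_normalizer_iff.1 hK x).1 hxN
  obtain ⟨j, hj⟩ := h.isPGroup_N ⟨x * u, mul_mem hxN huN⟩
  have hj' : (x * u) ^ (2 ^ j) = 1 := congrArg Subtype.val hj
  obtain ⟨i, -, hi⟩ := (Nat.dvd_prime_pow Nat.prime_two).1 (orderOf_dvd_of_pow_eq_one hj')
  have hodd := ho.2.2.2
  rw [hi] at hodd
  rcases Nat.eq_zero_or_pos i with rfl | hip
  · rw [pow_zero, orderOf_eq_one_iff] at hi
    exact ho.2.2.1 ((eq_inv_of_mul_eq_one_left hi).trans (Inv.inv_eq h.cls.1 hu))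
  · exact absurd hodd (by simp [Nat.odd_pow_iff hip.ne', show ¬ Odd 2 by decide])

/-- Induction from the bottom of the lower central series of `N`. -/
theorem Ctx.lcs_induction {P : G → Prop} (h1 : P 1)
    (step : ∀ j, ∀ x ∈ (closure (W D d)).lowerCentralSeries j,
      (∀ y ∈ (closure (W D d)).lowerCentralSeries (j + 1), P y) → P x) :
    ∀ x ∈ closure (W D d), P x := by
  haveI : Fact (Nat.Prime 2) := ⟨Nat.prime_two⟩
  haveI : Group.IsNilpotent (closure (W D d)) := h.isPGroup_N.isNilpotent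
  obtain ⟨n, hn⟩ := (isNilpotent_iff_lowerCentralSeries (closure (W D d))).1 inferInstance
  suffices ∀ i j, i + j = n → ∀ x ∈ (closure (W D d)).lowerCentralSeries j, P x from this n 0 rfl
  intro i
  induction i with
  | zero =>
    intro j hj x hx
    rw [Nat.zero_add] at hj
    rw [hj, hn, mem_bot] at hx
    exact hx ▸ h1
  | succ i ih => exact fun j hj x hx => step j x hx (ih (j + 1) (by omega))

theorem Ctx.cm_lcs {a b : G} {j : ℕ} (ha : a ∈ W1 D d) (hb : b ∈ W1 D d)
    (haj : a ∈ (closure (W D d)).lowerCentralSeries j) :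
    cm a b ∈ (closure (W D d)).lowerCentralSeries (j + 1) := by
  rw [cm_eq_commutator (h.sq ha) (h.sq hb), Subgroup.lowerCentralSeries_succ]
  exact commutator_mem_commutator haj (W1_N hb)

/-- A member central in `N` has the odd partners of `d`. -/
theorem Ctx.central_mem_EC {e : G} (he : e ∈ W D d) (hcom : ∀ w ∈ W D d, Commute e w) : e ∈ EC D d := by
  by_contra hne
  have hD := h.cls.1
  obtain ⟨y, hye, hyd⟩ : ∃ y, y ∈ Inv.OddSet D e ∧ y ∉ Inv.OddSet D d := by
    by_contra hcon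
    push Not at hcon
    exact hne ⟨he.1, Inv.oddSet_eq_of_subset hD h.conn he.1 h.mem hcon⟩
  have hnc : ¬ Commute d y := fun hc => he.2.2 y hye.2.1 hc.symm hye
  have h4 : Inv.Four D d y := Inv.four_of_not hD h.mem hye.2.1 hnc hyd
  obtain ⟨hfD, hfd, hfy, -, hdf, -⟩ := Inv.four_data hD h4
  obtain ⟨-, -, -, -, hyf, hs⟩ := Inv.four_data hD (Inv.four_symm hD h4)
  rw [← hs] at hyf
  have hfW : (d * y) ^ 2 ∈ W D d := h.W_of_line hfD h.d_mem_EC hfd (by rw [hfd.eq]; exact hdf)
  exact Inv.center_false hD (Inv.sq_eq hD hfD) (Inv.ne_one hD hfD) (hcom _ hfW).symm hfy hye hyf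

end Cfsg.Agent.H73.RootStr
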