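import Cfsg.Agent.H73.RootStr.Basic

/-!
The root structure theorem: the chart given by a member `c` of `W` outside `E(d)` and an odd partner
`y` of `c` that is no odd partner of `d`. The map `e ↦ (e y)²` is an injective homomorphism of `E(d)`.
-/

set_option autoImplicit false

namespace Cfsg.Agent.H73.RootStr

open Subgroup Cfsg.Agent.H87

variable {G : Type*} [Group G] {D : Set G} {d c y : G}

theorem cm_cancel {a p t : G} (ha : a * a = 1) (h : p * a * p = a * t) : cm a p = t :=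
  mul_left_cancel ((conj_eq_mul_cm ha p).symm.trans h)

theorem cm_mul_right {a p q : G} (ha : a * a = 1) (hq : q * q = 1) (hpq : Commute p q)
    (hc : Commute (cm a p) q) : cm a (p * q) = cm a q * cm a p := by
  refine cm_cancel ha ?_
  calc p * q * a * (p * q) = q * (p * a * p) * q := by
        nth_rw 1 [hpq.eq]
        simp [mul_assoc]
    _ = q * a * q * (q * cm a p * q) := by rw [conj_eq_mul_cm ha, cj_mul hq]
    _ = _ := by rw [conj_eq_mul_cm ha, cj_of_commute hq hc.symm, mul_assoc]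

theorem cm_mul_left {a b p : G} (ha : a * a = 1) (hb : b * b = 1) (hp : p * p = 1) (hab : Commute a b)
    (hc : Commute (cm a p) b) : cm (a * b) p = cm a p * cm b p := by
  refine cm_cancel (by rw [hab.symm.mul_mul_mul_comm, ha, hb, one_mul]) ?_
  calc p * (a * b) * p = a * cm a p * (b * cm b p) := by rw [cj_mul hp, conj_eq_mul_cm ha, conj_eq_mul_cm hb]
    _ = a * (cm a p * b) * cm b p := by simp [mul_assoc]
    _ = a * b * (cm a p * cm b p) := by rw [hc.eq]; simp [mul_assoc]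

/-- The data of a chart. -/
structure Chart (D : Set G) (d c y : G) : Prop where
  cW : c ∈ W D d
  cE : c ∉ Cfsg.sameCommutingSubgroup D d
  cS : Sp D d c
  odd : Cfsg.OddAdj D c y
  nodd : y ∉ Inv.OddSet D d

variable [Finite G] (h : Ctx D d)
include h

theorem Ctx.exists_chart (hcW : c ∈ W D d) (hcE : c ∉ Cfsg.sameCommutingSubgroup D d) (hcS : Sp D d c) :
    ∃ y, Chart D d c y := by
  by_contra hcon
  push Not at hcon
  refine hcE ((h.mem_E h.mem).2 (Or.inr ⟨hcW.1, ?_⟩))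
  refine Inv.oddSet_eq_of_subset h.cls.1 h.conn hcW.1 h.mem fun y hy => ?_
  by_contra hyd
  exact hcon y ⟨hcW, hcE, hcS, hy, hyd⟩

variable (C : Chart D d c y)
include C

theorem Ctx.yD : y ∈ D := C.odd.2.1

theorem Ctx.ysq : y * y = 1 := Inv.sq_eq h.cls.1 C.odd.2.1

theorem Ctx.cW1 : c ∈ W1 D d := Or.inr C.cW

theorem Ctx.four_E {e : G} (he : e ∈ EC D d) : Inv.Four D e y := by
  refine Inv.four_of_not h.cls.1 he.1 C.odd.2.1 (fun hc => ?_) (fun ho => ?_)
  · exact C.cW.2.2 y C.odd.2.1 (h.comm_EC' h.mem he C.odd.2.1 hc.symm) C.odd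
  · exact C.nodd (show y ∈ Inv.OddSet D d by rw [← he.2]; exact ho)

theorem Ctx.phi_data {e : G} (he : e ∈ EC D d) :
    cm e y ∈ W D d ∧ Commute (cm e y) e ∧ Commute (cm e y) y ∧ y * cm e y ∈ D := by
  obtain ⟨hfD, hfe, hfy, -, hef, -⟩ := Inv.four_data h.cls.1 (h.four_E C he)
  obtain ⟨-, -, -, -, hyf, hs⟩ := Inv.four_data h.cls.1 (Inv.four_symm h.cls.1 (h.four_E C he))
  rw [← hs] at hyf
  exact ⟨h.W_of_line hfD he hfe (hfe.eq.symm ▸ hef), hfe, hfy, hyf⟩

theorem Ctx.phi_W1 {e : G} (he : e ∈ Cfsg.sameCommutingSubgroup D d) : cm e y ∈ W1 D d := by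
  rcases (h.mem_E h.mem).1 he with rfl | he
  · exact Or.inl (cm_one_left (h.ysq C))
  · exact Or.inr (h.phi_data C he).1

theorem Ctx.phi_y {e : G} (he : e ∈ Cfsg.sameCommutingSubgroup D d) : Commute (cm e y) y := by
  rcases (h.mem_E h.mem).1 he with rfl | he
  · rw [cm_one_left (h.ysq C)]; exact Commute.one_left y
  · exact (h.phi_data C he).2.2.1

theorem Ctx.phi_E {e e' : G} (he : e ∈ Cfsg.sameCommutingSubgroup D d)
    (he' : e' ∈ Cfsg.sameCommutingSubgroup D d) : Commute e' (cm e y) := h.E_comm_W1 he' (h.phi_W1 C he)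

theorem Ctx.phi_cj {e : G} (he : e ∈ Cfsg.sameCommutingSubgroup D d) : y * e * y = e * cm e y :=
  conj_eq_mul_cm (h.sq (h.E_W1 he)) y

theorem Ctx.cj_phi {e : G} (he : e ∈ Cfsg.sameCommutingSubgroup D d) : y * cm e y * y = cm e y :=
  cj_of_commute (h.ysq C) (h.phi_y C he).symm

theorem Ctx.phi_mul {e f : G} (he : e ∈ Cfsg.sameCommutingSubgroup D d)
    (hf : f ∈ Cfsg.sameCommutingSubgroup D d) : cm (e * f) y = cm e y * cm f y :=
  cm_mul_left (h.sq (h.E_W1 he)) (h.sq (h.E_W1 hf)) (h.ysq C) (h.E_comm_W1 he (h.E_W1 hf))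
    (h.phi_E C he hf).symm

theorem Ctx.phi_comm {e f : G} (he : e ∈ Cfsg.sameCommutingSubgroup D d)
    (hf : f ∈ Cfsg.sameCommutingSubgroup D d) : Commute (cm e y) (cm f y) := by
  show cm e y * cm f y = cm f y * cm e y
  rw [← h.phi_mul C he hf, ← h.phi_mul C hf he, (h.E_comm_W1 he (h.E_W1 hf)).eq]

/-- A member of `W` with odd product with `y` has product of order four with every `(e y)²`. -/
theorem Ctx.four_phi {a e : G} (haD : a ∈ D) (had : Commute a d) (hodd : Cfsg.OddAdj D a y)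
    (he : e ∈ EC D d) : Inv.Four D a (cm e y) := by
  obtain ⟨hfW, -, hfy, hyf⟩ := h.phi_data C he
  refine Inv.four_of_not h.cls.1 haD hfW.1 (fun hc => ?_) (fun ho => ?_)
  · exact Inv.center_false h.cls.1 (Inv.sq_eq h.cls.1 hfW.1) (Inv.ne_one h.cls.1 hfW.1) hc.symm hfy hodd hyf
  · exact hfW.2.2 a haD had (Inv.odd_symm h.cls.1 ho)

theorem Ctx.cm_phi_ne {a e : G} (ha : a ∈ W D d) (hodd : Cfsg.OddAdj D a y) (he : e ∈ EC D d) :
    cm a (cm e y) ∈ D ∧ cm a (cm e y) ≠ 1 := by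
  have h1 := (Inv.four_data h.cls.1 (h.four_phi C ha.1 ha.2.1 hodd he)).1
  exact ⟨h1, Inv.ne_one h.cls.1 h1⟩

theorem Ctx.C0_mul {e f : G} (he : e ∈ Cfsg.sameCommutingSubgroup D d)
    (hf : f ∈ Cfsg.sameCommutingSubgroup D d) :
    cm c (cm (e * f) y) = cm c (cm e y) * cm c (cm f y) := by
  have h1 := h.sp_mem (h.sq (h.cW1 C)) C.cS (h.phi_W1 C he)
  have h2 := h.sp_mem (h.sq (h.cW1 C)) C.cS (h.phi_W1 C hf)
  rw [h.phi_mul C he hf, cm_mul_right (h.sq (h.cW1 C)) (h.sq (h.phi_W1 C hf)) (h.phi_comm C he hf)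
    (h.E_comm_W1 h1 (h.phi_W1 C hf)), (h.E_comm_W1 h2 (h.E_W1 h1)).eq]

theorem Ctx.C0_eq_one {e : G} (he : e ∈ Cfsg.sameCommutingSubgroup D d) (h1 : cm c (cm e y) = 1) :
    e = 1 := by
  rcases (h.mem_E h.mem).1 he with rfl | he
  · rfl
  · exact absurd h1 (h.cm_phi_ne C C.cW C.odd he).2

theorem Ctx.C0_inj {e f : G} (he : e ∈ Cfsg.sameCommutingSubgroup D d)
    (hf : f ∈ Cfsg.sameCommutingSubgroup D d) (h1 : cm c (cm e y) = cm c (cm f y)) : e = f := by
  have h2 := h.C0_mul C he hf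
  rw [h1, h.sq (h.cm_mem (h.cW1 C) (h.phi_W1 C hf))] at h2
  exact (eq_inv_of_mul_eq_one_left (h.C0_eq_one C (mul_mem he hf) h2)).trans (h.inv (h.E_W1 hf))

theorem Ctx.C0_surj {e : G} (he : e ∈ Cfsg.sameCommutingSubgroup D d) :
    ∃ f ∈ Cfsg.sameCommutingSubgroup D d, cm c (cm f y) = e := by
  let ψ : Cfsg.sameCommutingSubgroup D d → Cfsg.sameCommutingSubgroup D d := fun u =>
    ⟨cm c (cm (u : G) y), h.sp_mem (h.sq (h.cW1 C)) C.cS (h.phi_W1 C u.2)⟩
  have hinj : Function.Injective ψ := fun u v huv =>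
    Subtype.ext (h.C0_inj C u.2 v.2 (congrArg Subtype.val huv))
  obtain ⟨f, hf⟩ := Finite.injective_iff_surjective.1 hinj ⟨e, he⟩
  exact ⟨f, f.2, congrArg Subtype.val hf⟩

theorem Ctx.c_mul_E {e : G} (he : e ∈ EC D d) : c * e ∈ D := by
  obtain ⟨f, hf, hfe⟩ := h.C0_surj C ((h.mem_E h.mem).2 (Or.inr he))
  rcases (h.mem_E h.mem).1 hf with rfl | hf
  · rw [cm_one_left (h.ysq C), cm_one_right (h.sq (h.cW1 C))] at hfe
    exact absurd hfe.symm (Inv.ne_one h.cls.1 he.1)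
  · rw [← hfe]
    exact (Inv.four_data h.cls.1 (h.four_phi C C.cW.1 C.cW.2.1 C.odd hf)).2.2.2.2.1

/-- Every member of `W` on a line with `y` is some `(e y)²`. -/
theorem Ctx.phi_surj {p : G} (hp : p ∈ W D d) (hpy : Commute p y) (hm : y * p ∈ D) :
    ∃ e ∈ Cfsg.sameCommutingSubgroup D d, cm e y = p := by
  have hD := h.cls.1
  set P : Set G := {p | p ∈ W D d ∧ Commute p y ∧ y * p ∈ D}
  have hfour : ∀ q ∈ P, Inv.Four D q c := fun q hq => (h.W_comm_or_four hq.1 C.cW).resolve_left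
    fun hc => Inv.center_false hD (Inv.sq_eq hD hq.1.1) (Inv.ne_one hD hq.1.1) hc hq.2.1 C.odd hq.2.2
  have hmaps : ∀ q ∈ P, cm q c ∈ EC D d := fun q hq => by
    have h1 : cm q c ∈ D := (Inv.four_data hD (hfour q hq)).1
    have h2 : cm c q ∈ Cfsg.sameCommutingSubgroup D d := C.cS q hq.1
    rw [h.cm_swap (Or.inr hq.1) (h.cW1 C)] at h2
    exact ((h.mem_E h.mem).1 h2).resolve_left (Inv.ne_one hD h1)
  have hle : P.ncard ≤ (EC D d).ncard := Set.ncard_le_ncard_of_injOn (fun q => cm q c) hmaps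
    (fun q hq r hr hqr => Inv.sq_injective hD (Inv.odd_symm hD C.odd) hq.2.1.symm hq.2.2 hr.2.1.symm
      hr.2.2 (hfour q hq) (hfour r hr) hqr) (Set.toFinite _)
  have hinj : Set.InjOn (fun e => cm e y) (EC D d) := by
    intro e he f hf hef
    refine h.C0_inj C ((h.mem_E h.mem).2 (Or.inr he)) ((h.mem_E h.mem).2 (Or.inr hf)) ?_
    exact congrArg (cm c) hef
  have hsub : (fun e => cm e y) '' EC D d ⊆ P := by
    rintro _ ⟨e, he, rfl⟩
    obtain ⟨h1, -, h2, h3⟩ := h.phi_data C he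
    exact ⟨h1, h2, h3⟩
  have heq := Set.eq_of_subset_of_ncard_le hsub (by rw [hinj.ncard_image]; exact hle) (Set.toFinite _)
  obtain ⟨e, he, hep⟩ := heq.symm.subset ⟨hp, hpy, hm⟩
  exact ⟨e, (h.mem_E h.mem).2 (Or.inr he), hep⟩

/-- The conjugate of `(a (e y)²)²` by `y`. -/
theorem Ctx.mdata {a e : G} (ha : a ∈ W1 D d) (he : e ∈ Cfsg.sameCommutingSubgroup D d) :
    ∃ x ∈ Cfsg.sameCommutingSubgroup D d,
      y * cm a (cm e y) * y = cm a (cm e y) * cm x y := by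
  have hD := h.cls.1
  have hyy := h.ysq C
  set f := cm e y
  set m := cm a f with hm
  have hmW : m ∈ W1 D d := h.cm_mem ha (h.phi_W1 C he)
  have hcom : Commute m y → ∃ x ∈ Cfsg.sameCommutingSubgroup D d, y * m * y = m * cm x y := fun hc =>
    ⟨1, one_mem _, by rw [cj_of_commute hyy hc.symm, cm_one_left hyy, mul_one]⟩
  by_cases hmy : Commute m y
  · exact hcom hmy
  rcases ha with rfl | haW
  · exact absurd (by rw [hm, cm_one_left (h.sq (h.phi_W1 C he))]; exact Commute.one_left y) hmy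
  rcases (h.mem_E h.mem).1 he with rfl | heE
  · refine absurd ?_ hmy
    rw [hm, show f = 1 from cm_one_left hyy, cm_one_right (Inv.sq_eq hD haW.1)]
    exact Commute.one_left y
  rcases hmW with hm1 | hmW
  · exact absurd (hm1 ▸ Commute.one_left y) hmy
  obtain ⟨hfW, hfe, hfy, hyf⟩ := h.phi_data C heE
  have haa := Inv.sq_eq hD haW.1
  -- `y m y` is the square of `(y a y) e`
  set a' := y * a * y with ha'
  have ha'D : a' ∈ D := by have := hD.conj_mem a haW.1 y; rwa [Inv.inv_eq hD C.odd.2.1] at this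
  have hq : y * m * y = cm a' e := by
    have h1 : cm a (y * e * y) = m := by
      rw [h.phi_cj C he, cm_mul_right haa (h.sq (h.phi_W1 C he)) (h.phi_E C he he)
        (by rw [cm_of_commute haa (h.sq (h.E_W1 he)) (h.E_comm_W1 he (Or.inr haW)).symm]
            exact Commute.one_left _),
        cm_of_commute haa (h.sq (h.E_W1 he)) (h.E_comm_W1 he (Or.inr haW)).symm, mul_one]
    rw [← h1, cm_cj hyy, cj_cj hyy]
  set q := y * m * y with hqdef
  have hqD : q ∈ D := by have := hD.conj_mem m hmW.1 y; rwa [Inv.inv_eq hD C.odd.2.1] at this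
  have h4 : Inv.Four D a' e := by
    refine Inv.four_of_not hD ha'D heE.1 (fun hc => ?_) (fun ho => ?_)
    · exact Inv.ne_one hD hqD (hq.trans (cm_of_commute (Inv.sq_eq hD ha'D) (Inv.sq_eq hD heE.1) hc))
    · refine Inv.ne_one hD hqD (Inv.eq_one_of_odd (Inv.sq_eq hD hqD) ho.2.2.2 ?_)
      rw [hq, cm, ← pow_mul, mul_comm, pow_mul, pow_orderOf_eq_one, one_pow]
  have hqW : q ∈ W D d := by
    obtain ⟨-, hqe, -, -, hm', hs⟩ := Inv.four_data hD (Inv.four_symm hD h4)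
    have hq' : q = (e * a') ^ 2 := hq.trans hs
    rw [← hq'] at hqe hm'
    exact h.W_of_line hqD heE hqe (by rw [hqe.eq]; exact hm')
  have hnodd : ¬ Cfsg.OddAdj D m y := fun ho =>
    Inv.center_false hD (Inv.sq_eq hD hfW.1) (Inv.ne_one hD hfW.1)
      (h.cm_comm_right (Or.inr haW) (Or.inr hfW)).symm hfy ho hyf
  have h4m := Inv.four_of_not hD hmW.1 C.odd.2.1 hmy hnodd
  obtain ⟨hrD, hrm, hry, hymy, -, -⟩ := Inv.four_data hD h4m
  obtain ⟨-, -, -, -, hyr, hs⟩ := Inv.four_data hD (Inv.four_symm hD h4m)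
  rw [← hs] at hyr
  have hmq : m * q = (m * y) ^ 2 := by rw [hqdef, hymy, Inv.self_mul_cancel hD hmW.1]
  have hrW : (m * y) ^ 2 ∈ W D d := by
    rw [← hmq]
    refine h.W_mul hmW hqW ?_ (hmq ▸ hrD)
    rw [hqdef, hymy]; exact (Commute.refl m).mul_right hrm.symm
  obtain ⟨x, hx, hxr⟩ := h.phi_surj C hrW hry hyr
  exact ⟨x, hx, by rw [hxr]; exact hymy⟩

/-- `m x` commutes with `y`. -/
theorem Ctx.z_comm {m x : G} (hx : x ∈ Cfsg.sameCommutingSubgroup D d) (hm : y * m * y = m * cm x y) :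
    Commute (m * x) y := by
  refine (commute_of_cj (h.ysq C) ?_).symm
  rw [cj_mul (h.ysq C), hm, h.phi_cj C hx, (h.phi_E C hx hx).eq, mul_assoc, ← mul_assoc (cm x y) (cm x y),
    h.sq (h.phi_W1 C hx), one_mul]

/-- `(a (e y)²)²` commutes with every `(e' y)²`. -/
theorem Ctx.mcomm {a e e' : G} (ha : a ∈ W1 D d) (he : e ∈ Cfsg.sameCommutingSubgroup D d)
    (he' : e' ∈ Cfsg.sameCommutingSubgroup D d) : Commute (cm a (cm e y)) (cm e' y) := by
  obtain ⟨x, hx, hxm⟩ := h.mdata C ha he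
  have h1 : Commute (cm a (cm e y) * x) e' :=
    ((h.E_comm_W1 he' (h.cm_mem ha (h.phi_W1 C he))).symm).mul_left (h.E_comm_W1 hx (h.E_W1 he'))
  have h2 : Commute (cm a (cm e y) * x) (cm e' y) := (h1.mul_right (h.z_comm C hx hxm)).pow_right 2
  have h3 := h2.mul_left (h.phi_E C he' hx)
  rwa [mul_assoc, h.sq (h.E_W1 hx), mul_one] at h3

theorem Ctx.m_mul {a e f : G} (ha : a ∈ W1 D d) (he : e ∈ Cfsg.sameCommutingSubgroup D d)
    (hf : f ∈ Cfsg.sameCommutingSubgroup D d) :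
    cm a (cm (e * f) y) = cm a (cm e y) * cm a (cm f y) := by
  rw [(h.E_comm_W1 he (h.E_W1 hf)).eq, h.phi_mul C hf he,
    cm_mul_right (h.sq ha) (h.sq (h.phi_W1 C he)) (h.phi_comm C hf he) (h.mcomm C ha hf he)]

theorem Ctx.m_comm {a e f : G} (ha : a ∈ W1 D d) (he : e ∈ Cfsg.sameCommutingSubgroup D d)
    (hf : f ∈ Cfsg.sameCommutingSubgroup D d) : Commute (cm a (cm e y)) (cm a (cm f y)) := by
  show _ = _
  rw [← h.m_mul C ha he hf, ← h.m_mul C ha hf he, (h.E_comm_W1 he (h.E_W1 hf)).eq]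

/-- For `a` with odd product with `y` only `e = 1` gives an `(a (e y)²)²` commuting with `y`. -/
theorem Ctx.not_comm_y {a e : G} (ha : a ∈ W D d) (hodd : Cfsg.OddAdj D a y) (he : e ∈ EC D d) :
    ¬ Commute (cm a (cm e y)) y := fun hc => by
  have h4 := h.four_phi C ha.1 ha.2.1 hodd he
  obtain ⟨hmD, hma, -, -, ham, -⟩ := Inv.four_data h.cls.1 h4
  exact Inv.center_false h.cls.1 (Inv.sq_eq h.cls.1 hmD) (Inv.ne_one h.cls.1 hmD) hc hma
    (Inv.odd_symm h.cls.1 hodd) ham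

end Cfsg.Agent.H73.RootStr
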