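import Cfsg.Agent.H73.RootStr.Chart

/-!
The root structure theorem: a chart at a commutator `c = (g k)²` outside `E(d)` is impossible.
-/

set_option autoImplicit false

namespace Cfsg.Agent.H73.RootStr

open Subgroup Cfsg.Agent.H87

variable {G : Type*} [Group G] {D : Set G} {d c y : G}

/-- On a line `a, μ` the member `μ` is a square `(f a)²` with `f` on a line with `x`. -/
theorem exists_sq_at [Finite G] (hD : Cfsg.IsRootInvolutionSet D) {a x μ : G}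
    (hax : Cfsg.OddAdj D a x) (ham : Commute a μ) (hm : a * μ ∈ D) (h4 : Inv.Four D μ x) :
    ∃ f, Commute x f ∧ x * f ∈ D ∧ Inv.Four D f a ∧ (f * a) ^ 2 = μ := by
  let X' : Set G := {e | Commute a e ∧ a * e ∈ D ∧ Inv.Four D e x}
  let Φ : Set G := {f | Commute x f ∧ x * f ∈ D ∧ Inv.Four D f a}
  have h1 : ∀ e ∈ X', (e * x) ^ 2 ∈ Φ := fun e he => Inv.sq_maps hD hax he.1 he.2.1 he.2.2
  have h2 : ∀ f ∈ Φ, (f * a) ^ 2 ∈ X' := fun f hf =>
    Inv.sq_maps hD (Inv.odd_symm hD hax) hf.1 hf.2.1 hf.2.2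
  let ψ : X' → X' := fun e => ⟨((((e : G) * x) ^ 2) * a) ^ 2, h2 _ (h1 _ e.2)⟩
  have hinj : Function.Injective ψ := by
    intro e e' he
    apply Subtype.ext
    have hf := h1 _ e.2
    have hf' := h1 _ e'.2
    exact Inv.sq_injective hD hax e.2.1 e.2.2.1 e'.2.1 e'.2.2.1 e.2.2.2 e'.2.2.2
      (Inv.sq_injective hD (Inv.odd_symm hD hax) hf.1 hf.2.1 hf'.1 hf'.2.1 hf.2.2 hf'.2.2
        (congrArg Subtype.val he))
  obtain ⟨e, he⟩ := (Finite.injective_iff_surjective.1 hinj) ⟨μ, ham, hm, h4⟩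
  exact ⟨((e : G) * x) ^ 2, (h1 _ e.2).1, (h1 _ e.2).2.1, (h1 _ e.2).2.2, congrArg Subtype.val he⟩

/-- The action of `y c'' y a y`. -/
def T (y cc a u : G) : G := y * (cc * (y * (a * (y * u * y) * a) * y) * cc) * y

variable [Finite G] (h : Ctx D d) (C : Chart D d c y)
include h C

theorem Ctx.Ec_W {cc : G} (hcc : cc ∈ EC D c) : cc ∈ W D d := by
  refine ⟨hcc.1, (h.comm_EC C.cW.1 hcc h.mem C.cW.2.1.symm).symm, fun u hu hud ho => ?_⟩
  exact C.cW.2.2 u hu hud (show u ∈ Inv.OddSet D c by rw [← hcc.2]; exact ho)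

theorem Ctx.Ec_odd {cc : G} (hcc : cc ∈ EC D c) : Cfsg.OddAdj D cc y :=
  show y ∈ Inv.OddSet D cc by rw [hcc.2]; exact C.odd

theorem Ctx.Ec_comm {x cc : G} (hx : x ∈ W1 D d) (hxc : Commute x c) (hcc : cc ∈ EC D c) :
    Commute x cc := by
  rcases hx with rfl | hx
  · exact Commute.one_left cc
  · exact h.comm_EC C.cW.1 hcc hx.1 hxc

theorem Ctx.cm_comm_c {a b : G} (ha : a ∈ W1 D d) (hb : b ∈ W1 D d) : Commute (cm a b) c :=
  (h.sp_commute (h.cW1 C) C.cS ha hb).symm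

theorem Ctx.cm_comm_Ec {a b cc : G} (ha : a ∈ W1 D d) (hb : b ∈ W1 D d) (hcc : cc ∈ EC D c) :
    Commute (cm a b) cc :=
  h.Ec_comm C (h.cm_mem ha hb) (h.cm_comm_c C ha hb) hcc

theorem Ctx.Ec_mul_cm {c1 c2 e : G} (h1 : c1 ∈ EC D c) (h2 : c2 ∈ EC D c)
    (he : e ∈ Cfsg.sameCommutingSubgroup D d) :
    cm (c1 * c2) (cm e y) = cm c1 (cm e y) * cm c2 (cm e y) :=
  cm_mul_left (Inv.sq_eq h.cls.1 h1.1) (Inv.sq_eq h.cls.1 h2.1) (h.sq (h.phi_W1 C he))
    (h.Ec_comm C (Or.inr (h.Ec_W C h1)) (h.comm_EC C.cW.1 h1 C.cW.1 (Commute.refl c)).symm h2)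
    (h.cm_comm_Ec C (Or.inr (h.Ec_W C h1)) (h.phi_W1 C he) h2)

theorem Ctx.lemmaZ {w cc e : G} (hw : w ∈ W1 D d) (hwc : Commute w c) (hcc : cc ∈ EC D c)
    (he : e ∈ Cfsg.sameCommutingSubgroup D d) : Commute w (cm cc (cm e y)) := by
  have hD := h.cls.1
  rcases hw with rfl | hw
  · exact Commute.one_left _
  set f := cm e y
  have hf := h.phi_W1 C he
  have hfc : f * c * f ∈ D := by have := hD.conj_mem c C.cW.1 f; rwa [h.inv hf] at this
  have hfcc : f * cc * f ∈ EC D (f * c * f) := by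
    refine ⟨by have := hD.conj_mem cc hcc.1 f; rwa [h.inv hf] at this, ?_⟩
    have := Inv.oddSet_conj_eq hD f hcc.2
    rwa [h.inv hf] at this
  have hwfc : Commute w (f * c * f) := by
    rw [conj_eq_mul_cm (h.sq (h.cW1 C))]
    exact hwc.mul_right (h.E_comm_W1 (h.sp_mem (h.sq (h.cW1 C)) C.cS hf) (Or.inr hw)).symm
  have h1 := h.comm_EC hfc hfcc hw.1 hwfc
  rw [conj_eq_mul_cm (Inv.sq_eq hD hcc.1)] at h1
  have h2 := (h.Ec_comm C (Or.inr hw) hwc hcc).mul_right h1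
  rwa [Inv.self_mul_cancel hD hcc.1] at h2

theorem Ctx.conj_family {w cc : G} (hw : w ∈ W D d) (hcc : cc ∈ EC D c) :
    ∃ e1 ∈ Cfsg.sameCommutingSubgroup D d, cm c (cm e1 y) = cm c w ∧
      ∃ c3 ∈ EC D c, c3 = cm e1 y * (w * cc * w) * cm e1 y ∧ w * cc * w = c3 * cm c3 (cm e1 y) ∧
        ∀ e ∈ Cfsg.sameCommutingSubgroup D d, w * cm cc (cm e y) * w = cm c3 (cm e y) := by
  have hD := h.cls.1
  obtain ⟨e1, he1, he1c⟩ := h.C0_surj C (C.cS w hw)
  refine ⟨e1, he1, he1c, ?_⟩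
  set f1 := cm e1 y
  have hf1 := h.phi_W1 C he1
  have hww := Inv.sq_eq hD hw.1
  have hcc2 := h.sq (h.cW1 C)
  have hfix : f1 * w * c * (f1 * w)⁻¹ = c := by
    rw [mul_inv_rev, h.inv hf1, Inv.inv_eq hD hw.1, show f1 * w * c * (w * f1) = f1 * (w * c * w) * f1 by
      simp [mul_assoc], conj_eq_mul_cm hcc2, ← he1c, ← conj_eq_mul_cm hcc2 f1, cj_cj (h.sq hf1)]
  have hc3 : f1 * (w * cc * w) * f1 ∈ EC D c := by
    have h1 := Inv.oddSet_conj_eq hD (f1 * w) hcc.2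
    rw [hfix] at h1
    have h2 : f1 * (w * cc * w) * f1 = f1 * w * cc * (f1 * w)⁻¹ := by
      rw [mul_inv_rev, h.inv hf1, Inv.inv_eq hD hw.1]; simp [mul_assoc, f1]
    rw [h2]
    exact ⟨hD.conj_mem cc hcc.1 _, h1⟩
  refine ⟨_, hc3, rfl, ?_⟩
  set c3 := f1 * (w * cc * w) * f1 with hc3def
  have hc3W : c3 ∈ W1 D d := Or.inr (h.Ec_W C hc3)
  have hwccw : w * cc * w = c3 * cm c3 f1 := by
    rw [← conj_eq_mul_cm (h.sq hc3W), hc3def, cj_cj (h.sq hf1)]
  refine ⟨hwccw, fun e he => ?_⟩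
  have hf := h.phi_W1 C he
  have hsW := h.cm_mem hf (Or.inr hw)
  set f := cm e y
  set s := cm f w with hs
  set P := cm c3 f1 with hP
  have hPW : P ∈ W1 D d := h.cm_mem hc3W hf1
  have hsc : Commute s c := h.cm_comm_c C hf (Or.inr hw)
  have hsc3 : Commute s c3 := h.Ec_comm C hsW hsc hc3
  have hsP : Commute s P := h.lemmaZ C hsW hsc hc3 he1
  have hc3P : Commute c3 P := (h.cm_comm_left hc3W hf1).symm
  have haa : c3 * P * (c3 * P) = 1 := by
    rw [hc3P.symm.mul_mul_mul_comm, h.sq hc3W, h.sq hPW, one_mul]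
  have haf : cm (c3 * P) f = cm c3 f := by
    rw [cm_mul_left (h.sq hc3W) (h.sq hPW) (h.sq hf) hc3P (h.m_comm C hc3W he he1),
      cm_of_commute (h.sq hPW) (h.sq hf) (h.mcomm C hc3W he1 he), mul_one]
  rw [cm_cj hww, hwccw, conj_eq_mul_cm (h.sq hf), ← hs,
    cm_mul_right haa (h.sq hsW) (h.cm_comm_left hf (Or.inr hw)).symm
      (by rw [haf]; exact (h.lemmaZ C hsW hsc hc3 he).symm),
    cm_of_commute haa (h.sq hsW) (hsc3.mul_right hsP).symm, one_mul, haf]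

/-- The homomorphism `e ↦ (a (e y)²)²` is onto `E(d)` when it has its values there. -/
theorem Ctx.m_surj {a x : G} (ha : a ∈ W D d) (hodd : Cfsg.OddAdj D a y)
    (hv : ∀ e ∈ Cfsg.sameCommutingSubgroup D d, cm a (cm e y) ∈ Cfsg.sameCommutingSubgroup D d)
    (hx : x ∈ Cfsg.sameCommutingSubgroup D d) :
    ∃ e ∈ Cfsg.sameCommutingSubgroup D d, cm a (cm e y) = x := by
  let ψ : Cfsg.sameCommutingSubgroup D d → Cfsg.sameCommutingSubgroup D d := fun u =>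
    ⟨cm a (cm (u : G) y), hv u u.2⟩
  have hinj : Function.Injective ψ := by
    intro u v huv
    have h1 : cm a (cm (u : G) y) = cm a (cm (v : G) y) := congrArg Subtype.val huv
    have h2 := h.m_mul C (Or.inr ha) u.2 v.2
    rw [h1, h.sq (h.cm_mem (Or.inr ha) (h.phi_W1 C v.2))] at h2
    rcases (h.mem_E h.mem).1 (mul_mem u.2 v.2) with h3 | h3
    · exact Subtype.ext ((eq_inv_of_mul_eq_one_left h3).trans (h.inv (h.E_W1 v.2)))
    · exact absurd h2 (h.cm_phi_ne C ha hodd h3).2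
  obtain ⟨f, hf⟩ := Finite.injective_iff_surjective.1 hinj ⟨x, hx⟩
  exact ⟨f, f.2, congrArg Subtype.val hf⟩

/-- All `(c'' (e y)²)²`, `c''` with the odd partners of `c`, lie in `E(d)`. -/
theorem Ctx.lemmaB {cc e : G} (hcc : cc ∈ EC D c) (he : e ∈ Cfsg.sameCommutingSubgroup D d) :
    cm cc (cm e y) ∈ Cfsg.sameCommutingSubgroup D d := by
  have hD := h.cls.1
  have hdE : d ∈ Cfsg.sameCommutingSubgroup D d := (h.mem_E h.mem).2 (Or.inr h.d_mem_EC)
  suffices ∀ x ∈ closure (W D d), ∀ cc ∈ EC D c, cm cc (cm d y) = x →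
      ∀ e ∈ Cfsg.sameCommutingSubgroup D d, cm cc (cm e y) ∈ Cfsg.sameCommutingSubgroup D d from
    this _ (W1_N (h.cm_mem (Or.inr (h.Ec_W C hcc)) (h.phi_W1 C hdE))) cc hcc rfl e he
  refine h.lcs_induction (fun cc hcc h1 => absurd h1
    (h.cm_phi_ne C (h.Ec_W C hcc) (h.Ec_odd C hcc) h.d_mem_EC).2) ?_
  intro j x hxj ih cc hcc hx e he
  have hccW := h.Ec_W C hcc
  have hW1 : cc ∈ W1 D d := Or.inr hccW
  by_cases hall : ∀ w ∈ W D d, Commute w (cm cc (cm e y))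
  · rcases h.cm_mem hW1 (h.phi_W1 C he) with h1 | h1
    · exact h1 ▸ one_mem _
    · exact (h.mem_E h.mem).2 (Or.inr (h.central_mem_EC h1 fun w hw => (hall w hw).symm))
  exfalso
  push Not at hall
  obtain ⟨w, hw, hwm⟩ := hall
  have hww := Inv.sq_eq hD hw.1
  obtain ⟨e1, he1, he1c, c3, hc3, hc3def, hwccw, hfam⟩ := h.conj_family C hw hcc
  have hne : cc ≠ c3 := fun h1 => hwm (commute_of_cj hww (by rw [hfam e he, ← h1]))
  have hc0 : cc * c3 ∈ EC D c := h.mul_EC C.cW.1 hcc hc3 hne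
  set c0 := cc * c3 with hc0def
  have hgood : ∀ e ∈ Cfsg.sameCommutingSubgroup D d, cm c0 (cm e y) ∈ Cfsg.sameCommutingSubgroup D d := by
    refine ih _ ?_ c0 hc0 rfl
    have hxW : x ∈ W1 D d := hx ▸ h.cm_mem hW1 (h.phi_W1 C hdE)
    rw [h.Ec_mul_cm C hcc hc3 hdE, ← hfam d hdE, hx, conj_eq_mul_cm (h.sq hxW), ← mul_assoc, h.sq hxW,
      one_mul]
    exact h.cm_lcs hxW (Or.inr hw) hxj
  have he1E : e1 ∈ EC D d := ((h.mem_E h.mem).1 he1).resolve_left fun h1 => by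
    apply hne
    rw [h1, cm_one_left (h.ysq C), cm_one_right (h.sq (h.cW1 C))] at he1c
    have hwc := (conj_of_cm_eq_one (h.sq (h.cW1 C)) hww he1c.symm).symm
    rw [hc3def, h1, cm_one_left (h.ysq C), one_mul, mul_one,
      cj_of_commute hww (h.Ec_comm C (Or.inr hw) hwc hcc)]
  set P := cm c3 (cm e1 y) with hPdef
  have hc3W := h.Ec_W C hc3
  have hc0W := h.Ec_W C hc0
  have hc0y := h.Ec_odd C hc0
  have hPD : P ∈ D := (h.cm_phi_ne C hc3W (h.Ec_odd C hc3) he1E).1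
  have hPc0 : Commute P c0 := h.cm_comm_Ec C (Or.inr hc3W) (h.phi_W1 C he1) hc0
  have hs : cm cc w = c0 * P := by
    rw [hc0def, mul_assoc, ← hwccw, conj_eq_mul_cm (h.sq hW1), Inv.self_mul_cancel hD hccW.1]
  have hc0P : c0 * P ∈ D := by
    rcases h.cm_mem hW1 (Or.inr hw) with h1 | h1
    · exfalso
      refine Inv.four_not_commute hD (h.four_phi C hc0W.1 hc0W.2.1 hc0y he1E) ?_
      have h2 : c0 = P := (eq_inv_of_mul_eq_one_left (hs ▸ h1)).trans (Inv.inv_eq hD hPD)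
      rw [h2]
      exact h.cm_comm_right (Or.inr hc3W) (h.phi_W1 C he1)
    · exact hs ▸ h1.1
  obtain ⟨hf1W, -, hf1y, hyf1⟩ := h.phi_data C he1E
  have hP4 : Inv.Four D P y := by
    refine Inv.four_of_not hD hPD C.odd.2.1 (fun hc => ?_) (fun ho => ?_)
    · exact Inv.center_false hD (Inv.sq_eq hD hPD) (Inv.ne_one hD hPD) hc hPc0
        (Inv.odd_symm hD hc0y) hc0P
    · exact Inv.center_false hD (Inv.sq_eq hD hf1W.1) (Inv.ne_one hD hf1W.1)
        (h.cm_comm_right (Or.inr hc3W) (h.phi_W1 C he1)).symm hf1y ho hyf1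
  obtain ⟨x', hx', hPy⟩ := h.mdata C (Or.inr hc3W) he1
  have hcmP : cm P y = cm x' y := cm_cancel (Inv.sq_eq hD hPD) hPy
  have hx'E : x' ∈ EC D d := ((h.mem_E h.mem).1 hx').resolve_left fun h1 => by
    rw [h1, cm_one_left (h.ysq C)] at hcmP
    exact Inv.ne_one hD (Inv.four_data hD hP4).1 hcmP
  obtain ⟨e', he', he'x⟩ := h.m_surj C hc0W hc0y hgood hx'
  have hc0x : Commute c0 x' ∧ c0 * x' ∈ D := by
    have hne' : e' ∈ EC D d := ((h.mem_E h.mem).1 he').resolve_left fun h1 => by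
      rw [h1, cm_one_left (h.ysq C), cm_one_right (h.sq (Or.inr hc0W))] at he'x
      exact Inv.ne_one hD hx'E.1 he'x.symm
    obtain ⟨-, h2, -, -, h5, -⟩ := Inv.four_data hD (h.four_phi C hc0W.1 hc0W.2.1 hc0y hne')
    rw [← he'x]
    exact ⟨h2.symm, h5⟩
  have hPx : P = x' := Inv.sq_injective hD hc0y hPc0.symm hc0P hc0x.1 hc0x.2 hP4 (h.four_E C hx'E) hcmP
  have h1 : w * P * w = P :=
    cj_of_commute hww (h.E_comm_W1 (hPx ▸ hx') (Or.inr hw)).symm
  have h2 : cm cc (cm e1 y) = P := by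
    rw [← cj_cj hww (cm cc (cm e1 y)), hfam e1 he1]; exact h1
  refine (h.cm_phi_ne C hc0W hc0y he1E).2 ?_
  rw [h.Ec_mul_cm C hcc hc3 he1, h2, Inv.sq_eq hD hPD]

/-- Some member with the odd partners of `c` gives any prescribed `(c'' (x y)²)²`. -/
theorem Ctx.exists_cc {x z : G} (hx : x ∈ EC D d) (hz : z ∈ EC D d) :
    ∃ cc ∈ EC D c, cm cc (cm x y) = z := by
  have hD := h.cls.1
  have hxE : x ∈ Cfsg.sameCommutingSubgroup D d := (h.mem_E h.mem).2 (Or.inr hx)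
  have hmaps : ∀ cc ∈ EC D c, cm cc (cm x y) ∈ EC D d := fun cc hcc =>
    ((h.mem_E h.mem).1 (h.lemmaB C hcc hxE)).resolve_left
      (h.cm_phi_ne C (h.Ec_W C hcc) (h.Ec_odd C hcc) hx).2
  have hinj : Set.InjOn (fun cc => cm cc (cm x y)) (EC D c) := by
    intro c1 h1 c2 h2 h12
    by_contra hne
    have h3 := h.mul_EC C.cW.1 h1 h2 hne
    refine (h.cm_phi_ne C (h.Ec_W C h3) (h.Ec_odd C h3) hx).2 ?_
    rw [h.Ec_mul_cm C h1 h2 hxE, show cm c1 (cm x y) = cm c2 (cm x y) from h12,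
      Inv.sq_eq hD (hmaps c2 h2).1]
  obtain ⟨g, hg⟩ := Inv.reach_conj hD (h.conn d h.mem c C.cW.1)
  have hle : (EC D d).ncard ≤ (EC D c).ncard :=
    Set.ncard_le_ncard_of_injOn (fun e => g * e * g⁻¹)
      (fun e he => ⟨hD.conj_mem e he.1 g, by rw [hg]; exact Inv.oddSet_conj_eq hD g he.2⟩)
      (fun u _ v _ huv => by simpa using huv) (Set.toFinite _)
  have heq : (fun cc => cm cc (cm x y)) '' EC D c = EC D d :=
    Set.eq_of_subset_of_ncard_le (by rintro _ ⟨cc, hcc, rfl⟩; exact hmaps cc hcc)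
      (by rw [hinj.ncard_image]; exact hle) (Set.toFinite _)
  obtain ⟨cc, hcc, h1⟩ := heq.symm.subset hz
  exact ⟨cc, hcc, h1⟩

theorem Ctx.T_eq {cc a : G} (hcc : cc ∈ EC D c) (ha : a ∈ W D d) (u : G) :
    T y cc a u = y * cc * y * a * y * u * (y * cc * y * a * y)⁻¹ := by
  simp [T, mul_assoc, Inv.inv_eq h.cls.1 C.odd.2.1, Inv.inv_eq h.cls.1 hcc.1, Inv.inv_eq h.cls.1 ha.1]

theorem Ctx.T_E {cc a e x : G} (hcc : cc ∈ EC D c) (ha : a ∈ W D d)
    (he : e ∈ Cfsg.sameCommutingSubgroup D d) (hx : x ∈ Cfsg.sameCommutingSubgroup D d)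
    (hm : y * cm a (cm e y) * y = cm a (cm e y) * cm x y) :
    T y cc a e = e * cm cc (cm x y) * cm a (cm e y) * cm (e * cm cc (cm x y)) y := by
  have hD := h.cls.1
  have hyy := h.ysq C
  have haa := Inv.sq_eq hD ha.1
  have hc2 := Inv.sq_eq hD hcc.1
  have hccW : cc ∈ W1 D d := Or.inr (h.Ec_W C hcc)
  have hfe := h.phi_W1 C he
  have hfx := h.phi_W1 C hx
  have hu : cm cc (cm x y) ∈ Cfsg.sameCommutingSubgroup D d := h.lemmaB C hcc hx
  set m := cm a (cm e y) with hmdef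
  set u := cm cc (cm x y) with hudef
  have hmW : m ∈ W1 D d := h.cm_mem (Or.inr ha) hfe
  have h1 : a * (y * e * y) * a = e * (cm e y * m) := by
    rw [h.phi_cj C he, cj_mul haa, cj_of_commute haa (h.E_comm_W1 he (Or.inr ha)).symm,
      conj_eq_mul_cm (h.sq hfe), h.cm_swap (Or.inr ha) hfe]
  have h2 : y * (e * (cm e y * m)) * y = e * (m * cm x y) := by
    rw [cj_mul hyy, cj_mul hyy, h.phi_cj C he, h.cj_phi C he, hm, mul_assoc e, ← mul_assoc (cm e y),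
      h.sq hfe, one_mul]
  have h3 : cc * (e * (m * cm x y)) * cc = e * (m * (cm x y * u)) := by
    rw [cj_mul hc2, cj_mul hc2, cj_of_commute hc2 (h.E_comm_W1 he hccW).symm,
      cj_of_commute hc2 (h.cm_comm_Ec C (Or.inr ha) hfe hcc).symm, conj_eq_mul_cm (h.sq hfx),
      h.cm_swap hccW hfx]
  have h4 : y * (e * (m * (cm x y * u))) * y = e * cm e y * (m * (u * cm u y)) := by
    rw [cj_mul hyy, cj_mul hyy, cj_mul hyy, h.phi_cj C he, hm, h.cj_phi C hx, h.phi_cj C hu,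
      mul_assoc m (cm x y), ← mul_assoc (cm x y) (cm x y), h.sq hfx, one_mul]
  rw [T, h1, h2, h3, h4, h.phi_mul C he hu]
  calc e * cm e y * (m * (u * cm u y)) = e * (cm e y * (m * u)) * cm u y := by simp [mul_assoc]
    _ = e * (u * m * cm e y) * cm u y := by
      rw [((h.mcomm C (Or.inr ha) he he).symm.mul_right (h.phi_E C he hu).symm).eq,
        (h.E_comm_W1 hu hmW).eq]
    _ = _ := by simp [mul_assoc]

theorem Ctx.lemmaC {a e0 : G} (ha : a ∈ W D d) (hodd : Cfsg.OddAdj D a y) (he0 : e0 ∈ EC D d)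
    (hm0 : cm a (cm e0 y) ∈ Cfsg.sameCommutingSubgroup D d) :
    (∀ e ∈ Cfsg.sameCommutingSubgroup D d, cm a (cm e y) ∈ Cfsg.sameCommutingSubgroup D d) ∧
    ∃ cc ∈ EC D c, (∀ e ∈ Cfsg.sameCommutingSubgroup D d, T y cc a e ∈ Cfsg.sameCommutingSubgroup D d) ∧
      ∀ w ∈ W1 D d, T y cc a w ∈ W1 D d := by
  have hD := h.cls.1
  have he0' : e0 ∈ Cfsg.sameCommutingSubgroup D d := (h.mem_E h.mem).2 (Or.inr he0)
  have hm0E : cm a (cm e0 y) ∈ EC D d :=
    ((h.mem_E h.mem).1 hm0).resolve_left (h.cm_phi_ne C ha hodd he0).2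
  obtain ⟨cc, hcc, hcc0⟩ := h.exists_cc C hm0E he0
  have hT0 : T y cc a e0 = cm a (cm e0 y) := by
    rw [h.T_E C hcc ha he0' hm0 (h.phi_cj C hm0), hcc0, h.sq (h.E_W1 he0'), cm_one_left (h.ysq C),
      one_mul, mul_one]
  set τ := y * cc * y * a * y
  have hTd : ∀ e ∈ EC D d, T y cc a e ∈ EC D d := fun e he => by
    rw [h.T_eq C hcc ha]
    refine ⟨hD.conj_mem e he.1 _, ?_⟩
    rw [Inv.oddSet_conj_eq hD τ (he.2.trans he0.2.symm), ← h.T_eq C hcc ha, hT0, hm0E.2]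
  have hTE : ∀ e ∈ Cfsg.sameCommutingSubgroup D d, T y cc a e ∈ Cfsg.sameCommutingSubgroup D d := by
    intro e he
    rcases (h.mem_E h.mem).1 he with rfl | he
    · rw [h.T_eq C hcc ha, mul_one, mul_inv_cancel]; exact one_mem _
    · exact (h.mem_E h.mem).2 (Or.inr (hTd e he))
  refine ⟨fun e he => ?_, cc, hcc, hTE, fun w hw => ?_⟩
  · obtain ⟨x, hx, hm⟩ := h.mdata C (Or.inr ha) he
    have hR := hTE e he
    rw [h.T_E C hcc ha he hx hm] at hR
    have hz := mul_mem he (h.lemmaB C hcc hx)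
    set z := e * cm cc (cm x y)
    set m := cm a (cm e y) with hmdef
    have hmW : m ∈ W1 D d := h.cm_mem (Or.inr ha) (h.phi_W1 C he)
    have h1 : m * (z * (z * m * cm z y)) = cm z y := by
      rw [← mul_assoc z, ← mul_assoc z z, h.sq (h.E_W1 hz), one_mul, ← mul_assoc, h.sq hmW, one_mul]
    have h2 : Commute c (cm z y) := by
      rw [← h1]
      exact (h.cm_comm_c C (Or.inr ha) (h.phi_W1 C he)).symm.mul_right
        ((h.E_comm_W1 hz (h.cW1 C)).symm.mul_right (h.E_comm_W1 hR (h.cW1 C)).symm)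
    have h3 : z = 1 := h.C0_eq_one C hz
      (cm_of_commute (h.sq (h.cW1 C)) (h.sq (h.phi_W1 C hz)) h2)
    rwa [h3, cm_one_left (h.ysq C), one_mul, mul_one] at hR
  · rw [h.T_eq C hcc ha]
    rcases hw with rfl | hw
    · exact Or.inl (by rw [mul_one, mul_inv_cancel])
    · refine Or.inr (h.W_conj ?_ hw)
      rw [← h.T_eq C hcc ha]
      exact hTd d h.d_mem_EC

theorem Ctx.lemmaD {a b e e0 : G} (hb : b ∈ W D d) (hodd : Cfsg.OddAdj D b y) (he0 : e0 ∈ EC D d)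
    (hb0 : cm b (cm e0 y) ∈ Cfsg.sameCommutingSubgroup D d) (ha : a ∈ W1 D d)
    (he : e ∈ Cfsg.sameCommutingSubgroup D d)
    (hμ : cm (cm a (cm e y)) b ∈ Cfsg.sameCommutingSubgroup D d) : cm (cm a (cm e y)) b = 1 := by
  have hD := h.cls.1
  have hyy := h.ysq C
  have hbb := Inv.sq_eq hD hb.1
  obtain ⟨-, cc, hcc, hTE, hTW⟩ := h.lemmaC C hb hodd he0 hb0
  have hc2 := Inv.sq_eq hD hcc.1
  have hccW : cc ∈ W1 D d := Or.inr (h.Ec_W C hcc)
  obtain ⟨x, hx, hm⟩ := h.mdata C ha he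
  have hfe := h.phi_W1 C he
  set m := cm a (cm e y) with hmdef
  set μ := cm m b with hμdef
  have hmW : m ∈ W1 D d := h.cm_mem ha hfe
  have hfμ := h.phi_W1 C hμ
  have hu : cm cc (cm μ y) ∈ Cfsg.sameCommutingSubgroup D d := h.lemmaB C hcc hμ
  set u := cm cc (cm μ y) with hudef
  obtain ⟨z, hzdef⟩ : ∃ z, z = m * x := ⟨_, rfl⟩
  have hyz : y * z * y = z := by rw [hzdef]; exact cj_of_commute hyy (h.z_comm C hx hm).symm
  have h1 : b * z * b = z * μ := by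
    rw [hzdef, cj_mul hbb, conj_eq_mul_cm (h.sq hmW), cj_of_commute hbb (h.E_comm_W1 hx (Or.inr hb)).symm,
      mul_assoc, (h.E_comm_W1 hx (h.E_W1 hμ)).symm.eq, ← mul_assoc]
  have h2 : cc * (z * (μ * cm μ y)) * cc = z * (μ * (cm μ y * u)) := by
    rw [cj_mul hc2, cj_mul hc2, cj_of_commute hc2 (h.E_comm_W1 hμ hccW).symm,
      cj_of_commute hc2 (hzdef ▸ (h.cm_comm_Ec C ha hfe hcc).symm.mul_right (h.E_comm_W1 hx hccW).symm),
      conj_eq_mul_cm (h.sq hfμ), h.cm_swap hccW hfμ]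
  have hT : T y cc b z = z * (μ * (u * cm u y)) := by
    rw [T, hyz, h1, cj_mul hyy z μ, hyz, h.phi_cj C hμ, h2, cj_mul hyy z, cj_mul hyy μ,
      cj_mul hyy (cm μ y) u, hyz,
      h.phi_cj C hμ, h.cj_phi C hμ, h.phi_cj C hu, mul_assoc μ, ← mul_assoc (cm μ y) (cm μ y),
      h.sq hfμ, one_mul]
  have hTz : Commute c (T y cc b z) := by
    rw [h.T_eq C hcc hb, hzdef, ← conj_mul, hmdef, cm_map_conj]
    refine Commute.mul_right ?_ ?_
    · rw [← h.T_eq C hcc hb, ← h.T_eq C hcc hb]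
      exact (h.cm_comm_c C (hTW a ha) (hTW _ hfe)).symm
    · rw [← h.T_eq C hcc hb]
      exact (h.E_comm_W1 (hTE x hx) (h.cW1 C)).symm
  have hcz : Commute c z := hzdef ▸
    (h.cm_comm_c C ha hfe).symm.mul_right (h.E_comm_W1 hx (h.cW1 C)).symm
  have hcu : Commute c (cm u y) := by
    have h3 : cm u y = u * (μ * (z⁻¹ * T y cc b z)) := by
      rw [hT, inv_mul_cancel_left, ← mul_assoc μ μ, h.sq (h.E_W1 hμ), one_mul, ← mul_assoc,
        h.sq (h.E_W1 hu), one_mul]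
    rw [h3]
    exact (h.E_comm_W1 hu (h.cW1 C)).symm.mul_right
      ((h.E_comm_W1 hμ (h.cW1 C)).symm.mul_right (hcz.inv_right.mul_right hTz))
  have hu1 : u = 1 := h.C0_eq_one C hu (cm_of_commute (h.sq (h.cW1 C)) (h.sq (h.phi_W1 C hu)) hcu)
  exact ((h.mem_E h.mem).1 hμ).resolve_right fun h3 =>
    (h.cm_phi_ne C (h.Ec_W C hcc) (h.Ec_odd C hcc) h3).2 hu1

theorem Ctx.exists_phi {b m : G} (hb : b ∈ W D d) (hodd : Cfsg.OddAdj D b y) (hm : m ∈ W1 D d)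
    (hμ : cm m b ∈ EC D d) : ∃ e0 ∈ EC D d, cm b (cm e0 y) = cm m b := by
  have hD := h.cls.1
  have h4 := h.four_of_cm hm (Or.inr hb) (Inv.ne_one hD hμ.1)
  obtain ⟨-, -, hcb, -, -, -⟩ := Inv.four_data hD h4
  obtain ⟨-, -, -, -, hbm, hs⟩ := Inv.four_data hD (Inv.four_symm hD h4)
  rw [← hs] at hbm
  obtain ⟨f, hxf, hxfD, hf4, hfμ⟩ := exists_sq_at hD hodd hcb.symm hbm (h.four_E C hμ)
  obtain ⟨-, hff, -, -, hfm, -⟩ := Inv.four_data hD hf4
  rw [hfμ] at hff hfm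
  have hfW : f ∈ W D d := h.W_of_line hf4.1 hμ hff.symm hfm
  obtain ⟨e0, he0, hef⟩ := h.phi_surj C hfW hxf.symm hxfD
  refine ⟨e0, ((h.mem_E h.mem).1 he0).resolve_left fun h1 => ?_, ?_⟩
  · rw [h1, cm_one_left (h.ysq C)] at hef
    exact Inv.ne_one hD hf4.1 hef.symm
  · rw [hef, ← h.cm_swap (Or.inr hb) (Or.inr hfW)]
    exact hfμ

/-- The commutator `c = (g k)²` of two odd partners of `y` leads to a contradiction. -/
theorem Ctx.core {g k : G} (hg : g ∈ W D d) (hk : k ∈ W D d) (hc : cm g k = c)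
    (hgS : ∀ u ∈ W1 D d, Sp D d (cm g u)) (hgy : Cfsg.OddAdj D g y) (hky : Cfsg.OddAdj D k y) : False := by
  have hD := h.cls.1
  have hg1 : g ∈ W1 D d := Or.inr hg
  have hk1 : k ∈ W1 D d := Or.inr hk
  have hgg := h.sq hg1
  have hkk := h.sq hk1
  have hdE : d ∈ Cfsg.sameCommutingSubgroup D d := (h.mem_E h.mem).2 (Or.inr h.d_mem_EC)
  have hf := h.phi_W1 C hdE
  set f := cm d y with hfdef
  set m := cm g f with hmdef
  set r := cm k f with hrdef
  have hm1 : m ∈ W1 D d := h.cm_mem hg1 hf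
  have hr1 : r ∈ W1 D d := h.cm_mem hk1 hf
  set μ := cm m k with hμdef
  set ρ := cm r g with hρdef
  have hρ1 : ρ ∈ W1 D d := h.cm_mem hr1 hg1
  set ν := cm ρ k with hνdef
  have hμE : μ ∈ Cfsg.sameCommutingSubgroup D d := h.sp_mem (h.sq hm1) (hgS f hf) hk1
  have hρS : Sp D d ρ := by rw [hρdef, h.cm_swap hg1 hr1]; exact hgS r hr1
  have hνE : ν ∈ Cfsg.sameCommutingSubgroup D d := h.sp_mem (h.sq hρ1) hρS hk1
  have hmr : Commute m r := h.sp_commute hm1 (hgS f hf) hk1 hf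
  have hρm : Commute ρ m := h.sp_commute hρ1 hρS hg1 hf
  have hρr : Commute ρ r := h.sp_commute hρ1 hρS hk1 hf
  have hmg : Commute m g := h.cm_comm_left hg1 hf
  have hrk : Commute r k := h.cm_comm_left hk1 hf
  have hswap : ∀ {p q : G}, p ∈ W1 D d → q ∈ W1 D d → p * q = q * p * cm p q := fun {p q} hp hq => by
    rw [mul_assoc q, ← conj_eq_mul_cm (h.sq hp), ← mul_assoc, ← mul_assoc, h.sq hq, one_mul]
  have hμc : ∀ {p : G}, p ∈ W1 D d → Commute μ p := fun hp => h.E_comm_W1 hμE hp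
  have hνc : ∀ {p : G}, p ∈ W1 D d → Commute ν p := fun hp => h.E_comm_W1 hνE hp
  -- the value of the chart at `d`
  have hmk : m * k = k * m * μ := hswap hm1 hk1
  have hrg : r * g = g * r * ρ := hswap hr1 hg1
  have hρk : ρ * k = k * ρ * ν := hswap hρ1 hk1
  have hL : f * c * f = g * m * (k * r) * (g * m * (k * r)) := by
    rw [← hc, cm_def, cj_mul (h.sq hf), cj_mul (h.sq hf), conj_eq_mul_cm hgg, conj_eq_mul_cm hkk]
  have hR : f * c * f = c * (μ * ν * ρ) := by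
    rw [hL]
    calc g * m * (k * r) * (g * m * (k * r))
        = g * (m * k) * ((r * g) * (m * k)) * r := by simp [mul_assoc]
      _ = g * (k * m * μ) * ((g * r * ρ) * (k * m * μ)) * r := by rw [hmk, hrg]
      _ = g * k * m * (μ * (g * r * ρ * k * m)) * μ * r := by simp [mul_assoc]
      _ = g * k * m * (g * r * ρ * k * m) * (μ * μ) * r := by
        rw [(((((hμc hg1).mul_right (hμc hr1)).mul_right (hμc hρ1)).mul_right (hμc hk1)).mul_right
          (hμc hm1)).eq]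
        simp [mul_assoc]
      _ = g * k * (m * g) * r * (ρ * k) * m * r := by rw [h.sq (h.E_W1 hμE), mul_one]; simp [mul_assoc]
      _ = g * k * (g * m) * r * (k * ρ * ν) * m * r := by rw [hmg.eq, hρk]
      _ = g * k * g * (m * (r * k)) * (ρ * ν) * m * r := by simp [mul_assoc]
      _ = g * k * g * ((m * k) * r) * (ρ * ν) * m * r := by rw [hrk.eq]; simp [mul_assoc]
      _ = g * k * g * (k * m * μ * r) * (ρ * ν) * m * r := by rw [hmk]
      _ = g * k * (g * k) * (m * (μ * r) * (ρ * (ν * m))) * r := by simp [mul_assoc]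
      _ = g * k * (g * k) * (m * (r * μ) * (ρ * (m * ν))) * r := by
        rw [(hμc hr1).eq, (hνc hm1).eq]
      _ = g * k * (g * k) * (m * r * (μ * (ρ * m)) * (ν * r)) := by simp [mul_assoc]
      _ = g * k * (g * k) * (m * r * (μ * (m * ρ)) * (r * ν)) := by rw [hρm.eq, (hνc hr1).eq]
      _ = g * k * (g * k) * (m * r * (μ * m) * (ρ * r) * ν) := by simp [mul_assoc]
      _ = g * k * (g * k) * (m * r * (m * μ) * (r * ρ) * ν) := by rw [(hμc hm1).eq, hρr.eq]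
      _ = g * k * (g * k) * (m * r * m * (μ * r) * (ρ * ν)) := by simp [mul_assoc]
      _ = g * k * (g * k) * (m * r * (m * r) * (μ * (ν * ρ))) := by
        rw [(hμc hr1).eq, ← (hνc hρ1).eq]; simp [mul_assoc]
      _ = c * (μ * ν * ρ) := by
        rw [hmr.symm.mul_mul_mul_comm, h.sq hm1, h.sq hr1, one_mul, one_mul, ← hc, cm_def]
        simp [mul_assoc]
  have hC0E := h.sp_mem (h.sq (h.cW1 C)) C.cS hf
  have hC0 : cm c f = μ * ν * ρ := cm_cancel (h.sq (h.cW1 C)) hR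
  have hρE : ρ ∈ Cfsg.sameCommutingSubgroup D d := by
    have h1 : ρ = (μ * ν)⁻¹ * cm c f := by rw [hC0, inv_mul_cancel_left]
    rw [h1]
    exact mul_mem (inv_mem (mul_mem hμE hνE)) hC0E
  have hν : ν = 1 := cm_of_commute (h.sq hρ1) hkk (h.E_comm_W1 hρE hk1)
  have hμ1 : μ = 1 := ((h.mem_E h.mem).1 hμE).resolve_right fun hμC => by
    obtain ⟨e0, he0, he0k⟩ := h.exists_phi C hk hky hm1 hμC
    exact Inv.ne_one hD hμC.1 (h.lemmaD C hk hky he0 (by rw [he0k]; exact hμE) hg1 hdE hμE)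
  have hρ : ρ = 1 := ((h.mem_E h.mem).1 hρE).resolve_right fun hρC => by
    obtain ⟨e0, he0, he0g⟩ := h.exists_phi C hg hgy hr1 hρC
    exact Inv.ne_one hD hρC.1 (h.lemmaD C hg hgy he0 (by rw [he0g]; exact hρE) hk1 hdE hρE)
  refine (h.cm_phi_ne C C.cW C.odd h.d_mem_EC).2 ?_
  rw [hC0, hν, hμ1, hρ, one_mul, one_mul]

end Cfsg.Agent.H73.RootStr
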