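import Cfsg.Agent.H73.RootStr.Failure

/-!
The root structure theorem: the group generated by the isolated members of `C_D(d)` has class two.
-/

set_option autoImplicit false

namespace Cfsg.Agent.H73.RootStr

open Subgroup Cfsg.Agent.H87
open scoped commutatorElement

variable {G : Type*} [Group G] [Finite G] {D : Set G} {d : G} (h : Ctx D d)
include h

theorem Ctx.sp_all {a : G} (ha : a ∈ W D d) : Sp D d a := by
  have hD := h.cls.1
  suffices ∀ x ∈ closure (W D d), x ∈ W1 D d → Sp D d x from this a (subset_closure ha) (Or.inr ha)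
  refine h.lcs_induction (fun _ => h.sp_of_E (one_mem _)) ?_
  intro j g hgj ih hg1
  rcases hg1 with rfl | hg
  · exact h.sp_of_E (one_mem _)
  intro k hk
  by_contra hcE
  have hg1 : g ∈ W1 D d := Or.inr hg
  have hk1 : k ∈ W1 D d := Or.inr hk
  have hgS : ∀ u ∈ W1 D d, Sp D d (cm g u) := fun u hu =>
    ih _ (h.cm_lcs hg1 hu hgj) (h.cm_mem hg1 hu)
  have hcW : cm g k ∈ W D d := (h.cm_mem hg1 hk1).resolve_left fun h1 => hcE (h1 ▸ one_mem _)
  obtain ⟨y, C⟩ := h.exists_chart hcW hcE (hgS k hk1)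
  have h4 := h.four_of_cm hg1 hk1 (Inv.ne_one hD hcW.1)
  have hcg : Commute (cm g k) g := h.cm_comm_left hg1 hk1
  have hck : Commute (cm g k) k := h.cm_comm_right hg1 hk1
  have hgc : cm g k * g ∈ D := by rw [hcg.eq]; exact (Inv.four_data hD h4).2.2.2.2.1
  have hkc : cm g k * k ∈ D := by
    rw [hck.eq, ← h.cm_swap hg1 hk1]
    exact (Inv.four_data hD (Inv.four_symm hD h4)).2.2.2.2.1
  -- two conjugates with the same commutator and odd product with `y`
  obtain ⟨g', hg', hg'c, hg'S, hg'y⟩ : ∃ g', g' ∈ W D d ∧ cm g' k = cm g k ∧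
      (∀ u ∈ W1 D d, Sp D d (cm g' u)) ∧ Cfsg.OddAdj D g' y := by
    rcases Inv.third hD hcg hg.1 hgc (Inv.odd_symm hD C.odd) with h1 | h1
    · exact ⟨g, hg, rfl, hgS, Inv.odd_symm hD h1⟩
    · refine ⟨k * g * k, h.cj_W hk1 hg, ?_, fun u hu => ?_, ?_⟩
      · have h2 := cm_cj (h.sq hk1) g k
        rw [cj_of_commute (h.sq hk1) hck.symm, cj_of_commute (h.sq hk1) (Commute.refl k)] at h2
        exact h2.symm
      · have h2 := h.sp_cj hk1 (hgS _ (h.cj_W1 hk1 hu))
        rwa [cm_cj (h.sq hk1), cj_cj (h.sq hk1)] at h2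
      · rw [conj_eq_mul_cm (h.sq hg1), ← hcg.eq]
        exact Inv.odd_symm hD h1
  have hg'1 : g' ∈ W1 D d := Or.inr hg'
  obtain ⟨k', hk', hk'c, hk'y⟩ : ∃ k', k' ∈ W D d ∧ cm g' k' = cm g k ∧ Cfsg.OddAdj D k' y := by
    rcases Inv.third hD hck hk.1 hkc (Inv.odd_symm hD C.odd) with h1 | h1
    · exact ⟨k, hk, hg'c, Inv.odd_symm hD h1⟩
    · have hcg' : Commute (cm g k) g' := hg'c ▸ h.cm_comm_left hg'1 hk1
      refine ⟨g' * k * g', h.cj_W hg'1 hk, ?_, ?_⟩
      · have h2 := cm_cj (h.sq hg'1) g' k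
        rw [hg'c, cj_of_commute (h.sq hg'1) hcg'.symm,
          cj_of_commute (h.sq hg'1) (Commute.refl g')] at h2
        exact h2.symm
      · rw [conj_eq_mul_cm (h.sq hk1), h.cm_swap hg'1 hk1, hg'c, ← hck.eq]
        exact Inv.odd_symm hD h1
  exact h.core C hg' hk' hk'c hg'S hg'y hk'y

theorem Ctx.W_eq : W D d = Cfsg.productPartners D d ∪ {d} := by
  have hD := h.cls.1
  ext w
  constructor
  · intro hw
    by_cases hwd : w = d
    · exact Or.inr hwd
    refine Or.inl ⟨⟨hw.1, hw.2.1.eq, hwd⟩, ?_⟩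
    by_cases hwE : w ∈ Cfsg.sameCommutingSubgroup D d
    · exact (h.mul_EC h.mem (((h.mem_E h.mem).1 hwE).resolve_left (Inv.ne_one hD hw.1)) h.d_mem_EC hwd).1
    · obtain ⟨y, C⟩ := h.exists_chart hw hwE (h.sp_all hw)
      exact h.c_mul_E C h.d_mem_EC
  · rintro (⟨⟨hwD, hwd, -⟩, hwm⟩ | rfl)
    · exact h.W_of_line hwD h.d_mem_EC hwd hwm
    · exact h.d_W

theorem Ctx.isolated_eq :
    {w | Cfsg.IsIsolatedElem (Cfsg.OddAdj (Cfsg.commutingMembers D d)) (Cfsg.commutingMembers D d) w} =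
      W D d := by
  have hD := h.cls.1
  ext w
  constructor
  · rintro ⟨⟨hwD, hwd⟩, hiso⟩
    exact ⟨hwD, hwd, fun u hu hud ho =>
      (hiso u).1 ⟨⟨hwD, hwd⟩, ⟨hu, hud.eq⟩, ho.2.2.1, ho.2.2.2⟩⟩
  · intro hw
    refine ⟨⟨hw.1, hw.2.1.eq⟩, fun b => ⟨fun hb => ?_, fun hb => ?_⟩⟩
    · exact hw.2.2 b hb.2.1.1 hb.2.1.2 ⟨hw.1, hb.2.1.1, hb.2.2.1, hb.2.2.2⟩
    · exact hw.2.2 b hb.1.1 hb.1.2 (Inv.odd_symm hD ⟨hb.1.1, hw.1, hb.2.2.1, hb.2.2.2⟩)

theorem Ctx.commutator_N (h4 : ∃ v, Inv.Four D d v) :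
    ⁅closure (W D d), closure (W D d)⁆ = Cfsg.sameCommutingSubgroup D d := by
  have hD := h.cls.1
  refine le_antisymm (commutator_le.2 ?_) ?_
  · have key : ∀ a ∈ W D d, ∀ x ∈ closure (W D d), ⁅a, x⁆ ∈ Cfsg.sameCommutingSubgroup D d := by
      intro a ha x hx
      induction hx using closure_induction with
      | mem w hw =>
        rw [← cm_eq_commutator (h.sq (Or.inr ha)) (h.sq (Or.inr hw))]
        exact h.sp_all ha w hw
      | one => rw [commutatorElement_one_right]; exact one_mem _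
      | mul p q hp _ hp' hq' =>
        rw [show ⁅a, p * q⁆ = ⁅a, p⁆ * (p * ⁅a, q⁆ * p⁻¹) by simp only [commutatorElement_def]; group,
          (h.E_comm hq' hp).symm.eq, mul_inv_cancel_right]
        exact mul_mem hp' hq'
      | inv p hp hp' =>
        have h1 := h.E_comm (inv_mem hp') hp
        rw [show ⁅a, p⁻¹⁆ = p⁻¹ * ⁅a, p⁆⁻¹ * p by simp only [commutatorElement_def]; group,
          mul_assoc, h1.eq, inv_mul_cancel_left]
        exact inv_mem hp'
    intro g₁ hg₁ g₂ hg₂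
    induction hg₁ using closure_induction with
    | mem w hw => exact key w hw g₂ hg₂
    | one => rw [commutatorElement_one_left]; exact one_mem _
    | mul p q hp _ hp' hq' =>
      rw [show ⁅p * q, g₂⁆ = p * ⁅q, g₂⁆ * p⁻¹ * ⁅p, g₂⁆ by simp only [commutatorElement_def]; group,
        (h.E_comm hq' hp).symm.eq, mul_inv_cancel_right]
      exact mul_mem hq' hp'
    | inv p hp hp' =>
      have h1 := h.E_comm (inv_mem hp') hp
      rw [show ⁅p⁻¹, g₂⁆ = p⁻¹ * ⁅p, g₂⁆⁻¹ * p by simp only [commutatorElement_def]; group,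
        mul_assoc, h1.eq, inv_mul_cancel_left]
      exact inv_mem hp'
  · intro e he
    rcases (h.mem_E h.mem).1 he with rfl | he
    · exact one_mem _
    obtain ⟨v, hv⟩ := h4
    obtain ⟨g, hg⟩ := Inv.reach_conj hD (h.conn _ (Inv.four_data hD hv).1 e he.1)
    set a := g * d * g⁻¹
    set b := g * v * g⁻¹
    have hab : Inv.Four D a b := ⟨hD.conj_mem d h.mem g, hD.conj_mem v hv.2.1 g, by
      rw [show a * b = MulAut.conj g (d * v) by simp [a, b, mul_assoc], MulEquiv.orderOf_eq]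
      exact hv.2.2⟩
    have heab : e = (a * b) ^ 2 := by rw [hg]; simp [a, b, pow_two, mul_assoc]
    obtain ⟨-, hea, heb, -, hae, -⟩ := Inv.four_data hD hab
    obtain ⟨-, -, -, -, hbe, hs⟩ := Inv.four_data hD (Inv.four_symm hD hab)
    rw [← hs, ← heab] at hbe
    rw [← heab] at hea heb hae
    have haW : a ∈ W D d := h.W_of_line hab.1 he hea.symm hae
    have hbW : b ∈ W D d := h.W_of_line hab.2.1 he heb.symm hbe
    rw [show e = ⁅a, b⁆ by
      rw [← cm_eq_commutator (Inv.sq_eq hD hab.1) (Inv.sq_eq hD hab.2.1)]; exact heab]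
    exact commutator_mem_commutator (subset_closure haW) (subset_closure hbW)

/-- The root structure theorem. -/
theorem Ctx.root_structure (h4 : ∃ v, Inv.Four D d v) :
    closure {w | Cfsg.IsIsolatedElem (Cfsg.OddAdj (Cfsg.commutingMembers D d)) (Cfsg.commutingMembers D d) w} =
      closure (Cfsg.productPartners D d ∪ {d}) ∧
    D ∩ (closure (Cfsg.productPartners D d ∪ {d}) : Set G) = Cfsg.productPartners D d ∪ {d} ∧
    ⁅closure (Cfsg.productPartners D d ∪ {d}), closure (Cfsg.productPartners D d ∪ {d})⁆ =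
      Cfsg.sameCommutingSubgroup D d ∧
    Cfsg.sameCommutingClass D d = {e | e ∈ D ∧ e ∈ closure (Cfsg.productPartners D d ∪ {d}) ∧
      ∀ y ∈ closure (Cfsg.productPartners D d ∪ {d}), e * y = y * e} := by
  rw [← h.W_eq, h.isolated_eq]
  refine ⟨rfl, ?_, h.commutator_N h4, ?_⟩
  · exact Set.Subset.antisymm (fun x hx => h.D_inter_N hx.1 hx.2)
      (fun x hx => ⟨hx.1, subset_closure hx⟩)
  · rw [h.sameClass h.mem]
    ext e
    constructor
    · intro he
      exact ⟨he.1, subset_closure (h.EC_W he),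
        fun y hy => (h.E_comm ((h.mem_E h.mem).2 (Or.inr he)) hy).eq⟩
    · rintro ⟨heD, heN, hcom⟩
      exact h.central_mem_EC (h.D_inter_N heD heN) fun w hw => hcom w (subset_closure hw)

end Cfsg.Agent.H73.RootStr
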